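import Mathlib
import Cfsg.Agent.S0001

/-!
# `π`-homogeneous groups and normal `π`-complements: reduction to simple groups

`PiNum π n`: every prime divisor of `n` lies in `π`.  `Homog π G`: every `π'`-element normalizing a
`π`-subgroup centralizes it.  `ClosedPr π G`: the `π'`-elements of `G` form a subgroup.

`main_reduction`: to prove `Homog π G → ClosedPr π G` on a class of finite groups closed under
subgroups and under quotients by normal `π'`-subgroups and by central `π`-subgroups, it is enough to do so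
for the non-abelian simple groups of the class all of whose proper subgroups are `ClosedPr`.
-/

set_option autoImplicit false

namespace Cfsg.Agent.H506.PiHomog

open Subgroup
open scoped Pointwise

universe u

/-- `n` is a `π`-number: all its prime divisors lie in `π`. -/
def PiNum (π : Set ℕ) (n : ℕ) : Prop := ∀ p : ℕ, p.Prime → p ∣ n → p ∈ π

theorem PiNum.mono {π : Set ℕ} {m n : ℕ} (h : PiNum π n) (hmn : m ∣ n) : PiNum π m :=
  fun p hp hpm => h p hp (hpm.trans hmn)

theorem PiNum.mul {π : Set ℕ} {m n : ℕ} (hm : PiNum π m) (hn : PiNum π n) : PiNum π (m * n) :=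
  fun p hp h => (hp.dvd_mul.1 h).elim (hm p hp) (hn p hp)

theorem PiNum.one (π : Set ℕ) : PiNum π 1 := fun _ hp h => (hp.one_lt.ne' (Nat.dvd_one.1 h)).elim

theorem PiNum.coprime {π : Set ℕ} {m n : ℕ} (hm : PiNum π m) (hn : PiNum πᶜ n) : Nat.Coprime m n :=
  Nat.coprime_of_dvd fun k hk h1 h2 => hn k hk h2 (hm k hk h1)

theorem PiNum.coprime' {π : Set ℕ} {m n : ℕ} (hm : PiNum πᶜ m) (hn : PiNum π n) : Nat.Coprime m n :=
  (PiNum.coprime hn hm).symm

/-- `π'`-elements normalizing a `π`-subgroup centralize it. -/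
def Homog (π : Set ℕ) (G : Type*) [Group G] : Prop :=
  ∀ H : Subgroup G, PiNum π (Nat.card H) → ∀ g ∈ normalizer (H : Set G), PiNum πᶜ (orderOf g) →
    ∀ h ∈ H, g * h = h * g

/-- The `π'`-elements of `G` form a subgroup. -/
def ClosedPr (π : Set ℕ) (G : Type*) [Group G] : Prop :=
  ∃ K : Subgroup G, ∀ x : G, x ∈ K ↔ PiNum πᶜ (orderOf x)

section basic

variable {π : Set ℕ} {G : Type*} [Group G]

theorem piNum_card_of_forall [Finite G] {σ : Set ℕ} (h : ∀ x : G, PiNum σ (orderOf x)) :
    PiNum σ (Nat.card G) := by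
  intro p hp hd
  have : Fact p.Prime := ⟨hp⟩
  obtain ⟨x, hx⟩ := exists_prime_orderOf_dvd_card' (G := G) p hd
  exact h x p hp (hx ▸ dvd_rfl)

theorem piNum_orderOf_of_mem {σ : Set ℕ} {K : Subgroup G} (h : PiNum σ (Nat.card K)) {x : G}
    (hx : x ∈ K) : PiNum σ (orderOf x) := by
  refine h.mono ?_
  have := orderOf_dvd_natCard (⟨x, hx⟩ : K)
  rwa [← Subgroup.orderOf_coe] at this

/-- The group-theoretic form of `π`-homogeneity gives the elementwise one. -/
theorem homog_of_relIndex [Finite G]
    (h : ∀ H : Subgroup G, H ≠ ⊥ → PiNum π (Nat.card H) →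
      PiNum π ((Subgroup.centralizer (H : Set G)).relIndex (Subgroup.normalizer (H : Set G)))) :
    Homog π G := by
  intro H hH g hg ho x hx
  by_cases hb : H = ⊥
  · subst hb
    rw [Subgroup.mem_bot] at hx
    subst hx
    simp
  have h1 := h H hb hH
  set f := H.normalizerMonoidHom with hf
  set g' : normalizer (H : Set G) := ⟨g, hg⟩ with hg'
  have h2 : orderOf (f g') ∣ Nat.card f.range := by
    have := orderOf_dvd_natCard (⟨f g', ⟨g', rfl⟩⟩ : f.range)
    rwa [← Subgroup.orderOf_coe] at this
  have h3 : Nat.card f.range = (Subgroup.centralizer (H : Set G)).relIndex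
      (Subgroup.normalizer (H : Set G)) := by
    rw [← Subgroup.index_ker, hf, Subgroup.normalizerMonoidHom_ker]
    rfl
  have h4 : orderOf (f g') ∣ orderOf g := by
    have := orderOf_map_dvd f g'
    rwa [← Subgroup.orderOf_coe] at this
  have h5 : orderOf (f g') = 1 :=
    Nat.eq_one_of_dvd_coprimes (PiNum.coprime (h1.mono (h3 ▸ dvd_rfl)) ho) h2 h4
  have h6 : g' ∈ f.ker := by
    rw [MonoidHom.mem_ker]
    exact orderOf_eq_one_iff.1 h5
  rw [hf, Subgroup.normalizerMonoidHom_ker, Subgroup.mem_subgroupOf, Subgroup.mem_centralizer_iff] at h6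
  exact (h6 x hx).symm

/-- A lift of minimal order of a `σ`-element is a `σ`-element. -/
theorem exists_lift {σ : Set ℕ} {Q : Type*} [Group Q] [Finite G] (f : G →* Q)
    (q : Q) (hq : PiNum σ (orderOf q)) (hfq : ∃ g, f g = q) : ∃ g, f g = q ∧ PiNum σ (orderOf g) := by
  classical
  have hne : ∃ n, ∃ g, f g = q ∧ orderOf g = n := by
    obtain ⟨g, hg⟩ := hfq
    exact ⟨_, g, hg, rfl⟩
  obtain ⟨g, hg, hn⟩ := Nat.find_spec hne
  refine ⟨g, hg, fun p hp hd => ?_⟩
  by_contra hpσ
  have hcop : Nat.Coprime p (orderOf q) := by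
    rw [Nat.Prime.coprime_iff_not_dvd hp]
    exact fun h => hpσ (hq p hp h)
  obtain ⟨m, hm⟩ := exists_pow_eq_self_of_coprime hcop
  have h1 : f ((g ^ p) ^ m) = q := by rw [map_pow, map_pow, hg, hm]
  have h2 : orderOf (g ^ p) * p = orderOf g := by
    rw [orderOf_pow_of_dvd hp.ne_zero hd]
    exact Nat.div_mul_cancel hd
  have h3 : orderOf ((g ^ p) ^ m) < orderOf g := by
    have h4 : 0 < orderOf (g ^ p) := orderOf_pos _
    have h5 : orderOf ((g ^ p) ^ m) ≤ orderOf (g ^ p) := Nat.le_of_dvd h4 (orderOf_pow_dvd m)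
    have h6 := hp.two_le
    nlinarith
  rw [hn] at h3
  exact Nat.find_min hne h3 ⟨_, h1, rfl⟩

/-- Every element is a product of commuting powers, one a `σ`-element, in the weak form needed: if all
`σᶜ`-elements of a subgroup `K` lie in a normal subgroup `C`, then `K/C` is a `σ`-group. -/
theorem piNum_range_of_forall [Finite G] {σ : Set ℕ} {Q : Type*} [Group Q] (f : G →* Q)
    (h : ∀ g : G, PiNum σᶜ (orderOf g) → f g = 1) : PiNum σ (Nat.card f.range) := by
  intro p hp hd
  by_contra hpσ
  have : Fact p.Prime := ⟨hp⟩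
  have hfin : Finite f.range := Finite.of_surjective f.rangeRestrict f.rangeRestrict_surjective
  obtain ⟨x, hx⟩ := exists_prime_orderOf_dvd_card' (G := f.range) p hd
  have h1 : PiNum σᶜ (orderOf (x : Q)) := by
    rw [Subgroup.orderOf_coe, hx]
    intro r hr hrp
    rw [(Nat.prime_dvd_prime_iff_eq hr hp).1 hrp]
    exact hpσ
  obtain ⟨g, hg, hg2⟩ := exists_lift f (x : Q) h1 x.2
  have h2 : (x : Q) = 1 := by rw [← hg, h g hg2]
  have h3 : orderOf (x : Q) = p := by rw [Subgroup.orderOf_coe, hx]
  rw [h2, orderOf_one] at h3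
  exact hp.one_lt.ne h3

/-- The elementwise form of `π`-homogeneity gives the group-theoretic one. -/
theorem relIndex_of_homog [Finite G] (h : Homog π G) (H : Subgroup G) (hH : PiNum π (Nat.card H)) :
    PiNum π ((Subgroup.centralizer (H : Set G)).relIndex (Subgroup.normalizer (H : Set G))) := by
  have h3 : Nat.card H.normalizerMonoidHom.range = (Subgroup.centralizer (H : Set G)).relIndex
      (Subgroup.normalizer (H : Set G)) := by
    rw [← Subgroup.index_ker, Subgroup.normalizerMonoidHom_ker]
    rfl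
  rw [← h3]
  apply piNum_range_of_forall
  intro g hg
  rw [← MonoidHom.mem_ker, Subgroup.normalizerMonoidHom_ker, Subgroup.mem_subgroupOf,
    Subgroup.mem_centralizer_iff]
  intro x hx
  refine (h H hH g g.2 ?_ x hx).symm
  rwa [Subgroup.orderOf_coe]

theorem Homog.subgroup (h : Homog π G) (K : Subgroup G) : Homog π K := by
  intro H hH g hg ho x hx
  have h1 : PiNum π (Nat.card (H.map K.subtype)) := by
    rwa [Subgroup.card_map_of_injective K.subtype_injective]
  have h2 : (g : G) ∈ normalizer ((H.map K.subtype : Subgroup G) : Set G) := by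
    rw [Subgroup.mem_normalizer_iff] at hg ⊢
    intro y
    constructor
    · rintro ⟨z, hz, rfl⟩
      exact ⟨g * z * g⁻¹, (hg z).1 hz, by simp⟩
    · rintro ⟨z, hz, hzy⟩
      have h4 : y = (g : G)⁻¹ * (z : G) * g := by
        have : (z : G) = g * y * (g : G)⁻¹ := hzy
        rw [this]; group
      refine ⟨g⁻¹ * z * g, (hg _).2 ?_, by rw [h4]; simp⟩
      have : g * (g⁻¹ * z * g) * g⁻¹ = z := by group
      rwa [this]
  have h3 := h (H.map K.subtype) h1 g h2 (by rwa [Subgroup.orderOf_coe]) x ⟨x, hx, rfl⟩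
  exact Subtype.ext h3

theorem Homog.of_mulEquiv {G' : Type*} [Group G'] (e : G ≃* G') (h : Homog π G) : Homog π G' := by
  intro H hH g hg ho x hx
  have h1 : PiNum π (Nat.card (H.comap e.toMonoidHom)) := by
    have : Nat.card (H.comap e.toMonoidHom) = Nat.card H :=
      Nat.card_congr (e.toEquiv.subtypeEquiv (fun a => Iff.rfl))
    rwa [this]
  have h2 : e.symm g ∈ normalizer ((H.comap e.toMonoidHom : Subgroup G) : Set G) := by
    rw [Subgroup.mem_normalizer_iff] at hg ⊢
    intro y
    rw [Subgroup.mem_comap, Subgroup.mem_comap]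
    simpa using hg (e y)
  have h3 := h _ h1 _ h2 (by rwa [MulEquiv.orderOf_eq]) (e.symm x) (by
    rw [Subgroup.mem_comap]; simpa using hx)
  have h4 := congrArg e h3
  simpa using h4

theorem ClosedPr.of_mulEquiv {G' : Type*} [Group G'] (e : G ≃* G') (h : ClosedPr π G) :
    ClosedPr π G' := by
  obtain ⟨K, hK⟩ := h
  refine ⟨K.comap e.symm.toMonoidHom, fun x => ?_⟩
  rw [Subgroup.mem_comap]
  have := hK (e.symm x)
  rw [MulEquiv.orderOf_eq] at this
  exact this

/-- A normal Hall `π'`-subgroup. -/
theorem closedPr_of_normal [Finite G] (K : Subgroup G) [K.Normal] (h1 : PiNum πᶜ (Nat.card K))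
    (h2 : PiNum π K.index) : ClosedPr π G := by
  refine ⟨K, fun x => ⟨fun hx => piNum_orderOf_of_mem h1 hx, fun hx => ?_⟩⟩
  have h3 : orderOf (QuotientGroup.mk' K x) ∣ K.index := orderOf_dvd_natCard _
  have h4 : orderOf (QuotientGroup.mk' K x) ∣ orderOf x := orderOf_map_dvd _ _
  have h5 : orderOf (QuotientGroup.mk' K x) = 1 :=
    Nat.eq_one_of_dvd_coprimes (PiNum.coprime h2 hx) h3 h4
  rw [orderOf_eq_one_iff] at h5
  exact (QuotientGroup.eq_one_iff x).mp h5

theorem exists_normal_of_closedPr [Finite G] (h : ClosedPr π G) :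
    ∃ K : Subgroup G, K.Characteristic ∧ PiNum πᶜ (Nat.card K) ∧ PiNum π K.index ∧
      ∀ x : G, x ∈ K ↔ PiNum πᶜ (orderOf x) := by
  obtain ⟨K, hK⟩ := h
  have hchar : K.Characteristic := by
    rw [Subgroup.characteristic_iff_comap_eq]
    intro φ
    ext x
    rw [Subgroup.mem_comap, hK, hK]
    simp [MulEquiv.orderOf_eq]
  have hn : K.Normal := Subgroup.normal_of_characteristic K
  refine ⟨K, hchar, ?_, ?_, hK⟩
  · apply piNum_card_of_forall
    intro x
    have := (hK x).1 x.2
    rwa [Subgroup.orderOf_coe] at this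
  · have h1 : K.index = Nat.card (QuotientGroup.mk' K).range := by
      rw [← Subgroup.index_ker, QuotientGroup.ker_mk']
    rw [h1]
    apply piNum_range_of_forall
    intro g hg
    rw [← MonoidHom.mem_ker, QuotientGroup.ker_mk']
    exact (hK g).2 hg

/-- `ClosedPr` for a subgroup containing all the `π'`-elements. -/
theorem closedPr_of_subgroup (M : Subgroup G) (hM : ∀ x : G, PiNum πᶜ (orderOf x) → x ∈ M)
    (h : ClosedPr π M) : ClosedPr π G := by
  obtain ⟨K, hK⟩ := h
  refine ⟨K.map M.subtype, fun x => ⟨?_, fun hx => ?_⟩⟩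
  · rintro ⟨y, hy, rfl⟩
    have := (hK y).1 hy
    rwa [← Subgroup.orderOf_coe] at this
  · refine ⟨⟨x, hM x hx⟩, (hK _).2 ?_, rfl⟩
    rwa [← Subgroup.orderOf_coe]

theorem ClosedPr.subgroup (h : ClosedPr π G) (M : Subgroup G) : ClosedPr π M := by
  obtain ⟨K, hK⟩ := h
  refine ⟨K.subgroupOf M, fun x => ?_⟩
  rw [Subgroup.mem_subgroupOf, hK, Subgroup.orderOf_coe]

theorem closedPr_of_piNum [Finite G] (h : PiNum π (Nat.card G)) : ClosedPr π G := by
  refine closedPr_of_normal ⊥ (by rw [Subgroup.card_bot]; exact PiNum.one _) ?_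
  rwa [Subgroup.index_bot]

theorem closedPr_of_piNum' [Finite G] (h : PiNum πᶜ (Nat.card G)) : ClosedPr π G := by
  refine closedPr_of_normal ⊤ (by rwa [Subgroup.card_top]) ?_
  rw [Subgroup.index_top]
  exact PiNum.one _

/-- A `π'`-closed group is `π`-homogeneous. -/
theorem ClosedPr.homog [Finite G] (h : ClosedPr π G) : Homog π G := by
  obtain ⟨K, hKc, hK1, -, hK⟩ := exists_normal_of_closedPr h
  have hKn : K.Normal := Subgroup.normal_of_characteristic K
  intro H hH g hg ho x hx
  have hgK : g ∈ K := (hK g).2 ho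
  have h1 : g * x * g⁻¹ * x⁻¹ ∈ K := by
    have : g * x * g⁻¹ * x⁻¹ = g * (x * g⁻¹ * x⁻¹) := by group
    rw [this]
    exact K.mul_mem hgK (hKn.conj_mem _ (K.inv_mem hgK) x)
  have h2 : g * x * g⁻¹ * x⁻¹ ∈ H :=
    H.mul_mem ((Subgroup.mem_normalizer_iff.1 hg x).1 hx) (H.inv_mem hx)
  have h3 : orderOf (g * x * g⁻¹ * x⁻¹) = 1 :=
    Nat.eq_one_of_dvd_coprimes
      (PiNum.coprime (piNum_orderOf_of_mem hH h2) (piNum_orderOf_of_mem hK1 h1)) dvd_rfl dvd_rfl
  rw [orderOf_eq_one_iff, mul_inv_eq_one, mul_inv_eq_iff_eq_mul] at h3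
  exact h3

end basic


section quotient

variable {π : Set ℕ} {G : Type*} [Group G] [Finite G]

theorem card_comap_mk (K : Subgroup G) [K.Normal] (H : Subgroup (G ⧸ K)) :
    Nat.card (H.comap (QuotientGroup.mk' K)) = Nat.card K * Nat.card H := by
  have h1 := Subgroup.card_mul_index (H.comap (QuotientGroup.mk' K))
  have h2 := Subgroup.card_mul_index H
  have h3 := Subgroup.card_mul_index K
  rw [Subgroup.index_comap_of_surjective H (QuotientGroup.mk'_surjective K)] at h1
  have h4 : K.index = Nat.card (G ⧸ K) := rfl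
  rw [h4, ← h2] at h3
  have h5 : H.index ≠ 0 := Subgroup.index_ne_zero_of_finite
  have h6 : Nat.card (H.comap (QuotientGroup.mk' K)) * H.index = Nat.card K * Nat.card H * H.index := by
    rw [h1, ← h3]; ring
  exact Nat.eq_of_mul_eq_mul_right (Nat.pos_of_ne_zero h5) h6

theorem closedPr_of_quotient (K : Subgroup G) [K.Normal] (hK : PiNum πᶜ (Nat.card K))
    (h : ClosedPr π (G ⧸ K)) : ClosedPr π G := by
  obtain ⟨M, hMc, hM1, hM2, -⟩ := exists_normal_of_closedPr h
  have hMn : M.Normal := Subgroup.normal_of_characteristic M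
  refine closedPr_of_normal (M.comap (QuotientGroup.mk' K)) ?_ ?_
  · rw [card_comap_mk]
    exact hK.mul hM1
  · rwa [Subgroup.index_comap_of_surjective M (QuotientGroup.mk'_surjective K)]

theorem ClosedPr.quotient (h : ClosedPr π G) (N : Subgroup G) [N.Normal] : ClosedPr π (G ⧸ N) := by
  obtain ⟨M, hMc, hM1, hM2, -⟩ := exists_normal_of_closedPr h
  have hMn : M.Normal := Subgroup.normal_of_characteristic M
  have hn : (M.map (QuotientGroup.mk' N)).Normal :=
    Subgroup.Normal.map hMn _ (QuotientGroup.mk'_surjective N)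
  refine closedPr_of_normal (M.map (QuotientGroup.mk' N)) ?_ ?_
  · exact hM1.mono (Subgroup.card_map_dvd M (QuotientGroup.mk' N))
  · exact hM2.mono (Subgroup.index_map_dvd M (QuotientGroup.mk'_surjective N))

omit [Finite G] in
theorem mem_normalizer_comap {K : Subgroup G} [K.Normal] {H : Subgroup (G ⧸ K)} {g : G}
    (hg : (QuotientGroup.mk' K g) ∈ normalizer (H : Set (G ⧸ K))) :
    g ∈ normalizer ((H.comap (QuotientGroup.mk' K) : Subgroup G) : Set G) := by
  rw [Subgroup.mem_normalizer_iff] at hg ⊢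
  intro y
  rw [Subgroup.mem_comap, Subgroup.mem_comap, hg, map_mul, map_mul, map_inv]

/-- The quotient of a `π`-homogeneous group by a central `π`-subgroup is `π`-homogeneous. -/
theorem Homog.quotient_of_le_center (hG : Homog π G) (N : Subgroup G) [N.Normal]
    (hN : PiNum π (Nat.card N)) : Homog π (G ⧸ N) := by
  intro H hH q hq ho x hx
  obtain ⟨g, rfl, hg⟩ := exists_lift (QuotientGroup.mk' N) q ho (QuotientGroup.mk'_surjective N q)
  obtain ⟨y, rfl⟩ := QuotientGroup.mk'_surjective N x
  have h1 : PiNum π (Nat.card (H.comap (QuotientGroup.mk' N))) := by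
    rw [card_comap_mk]
    exact hN.mul hH
  have h2 := hG _ h1 g (mem_normalizer_comap hq) hg y hx
  rw [← map_mul, h2, map_mul]

/-- The quotient of a `π`-homogeneous group by a normal `π'`-subgroup is `π`-homogeneous, given enough
solvability for the conjugacy part of the Schur–Zassenhaus theorem. -/
theorem Homog.quotient (hG : Homog π G) (K : Subgroup G) [K.Normal]
    (hK : PiNum πᶜ (Nat.card K))
    (hS : ∀ H : Subgroup G, K ≤ H → PiNum π (K.relIndex H) →
      Group.IsSolvable K ∨ Group.IsSolvable (H ⧸ K.subgroupOf H)) : Homog π (G ⧸ K) := by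
  intro H' hH q hq ho x hx
  set H := H'.comap (QuotientGroup.mk' K) with hHdef
  have hKH : K ≤ H := by
    intro k hk
    have h1 : QuotientGroup.mk' K k = 1 := (QuotientGroup.eq_one_iff (N := K) k).2 hk
    rw [hHdef, Subgroup.mem_comap, h1]
    exact H'.one_mem
  have hcardK : Nat.card (K.subgroupOf H) = Nat.card K :=
    Nat.card_congr (Subgroup.subgroupOfEquivOfLe hKH).toEquiv
  have hcardH : Nat.card H = Nat.card K * Nat.card H' := card_comap_mk K H'
  have hidx : (K.subgroupOf H).index = Nat.card H' := by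
    have h1 := Subgroup.card_mul_index (K.subgroupOf H)
    rw [hcardK, hcardH] at h1
    exact Nat.eq_of_mul_eq_mul_left Nat.card_pos h1
  have hcop : (Nat.card (K.subgroupOf H)).Coprime (K.subgroupOf H).index := by
    rw [hcardK, hidx]
    exact PiNum.coprime' hK hH
  obtain ⟨H0, hH0⟩ := Subgroup.exists_right_complement'_of_coprime hcop
  obtain ⟨g, hg⟩ := QuotientGroup.mk'_surjective K q
  have hgN : g ∈ normalizer (H : Set G) := mem_normalizer_comap (by rw [hg]; exact hq)
  -- conjugation by `g` on `H`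
  set φ : H ≃* H := H.normalizerMonoidHom ⟨g, hgN⟩ with hφ
  have hφv : ∀ h : H, ((φ h : H) : G) = g * h * g⁻¹ := fun h => rfl
  have hφK : (K.subgroupOf H).map φ.toMonoidHom = K.subgroupOf H := by
    ext z
    constructor
    · rintro ⟨y, hy, rfl⟩
      rw [Subgroup.mem_subgroupOf]
      exact (inferInstance : K.Normal).conj_mem _ hy g
    · intro hz
      refine ⟨φ.symm z, ?_, by simp⟩
      have h1 : ((φ.symm z : H) : G) = g⁻¹ * z * g := by
        have h2 := hφv (φ.symm z)
        rw [MulEquiv.apply_symm_apply] at h2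
        rw [h2]; group
      rw [SetLike.mem_coe, Subgroup.mem_subgroupOf, h1]
      have := (inferInstance : K.Normal).conj_mem _ hz g⁻¹
      simpa using this
  have hH1 : Subgroup.IsComplement' (K.subgroupOf H) (H0.map φ.toMonoidHom) := by
    have hc : Nat.card (H0.map φ.toMonoidHom) = Nat.card H0 :=
      Subgroup.card_map_of_injective φ.injective
    apply Subgroup.isComplement'_of_coprime
    · rw [hc]; exact hH0.card_mul_card
    · rw [hc, ← hH0.symm.index_eq_card]
      exact hcop
  obtain ⟨h, hh⟩ := Cfsg.Agent.S0001.result (K.subgroupOf H) hcop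
    (by
      rcases hS H hKH (by
        show PiNum π (K.subgroupOf H).index
        rwa [hidx]) with h | h
      · left
        exact Group.isSolvable_of_surjective (f := (Subgroup.subgroupOfEquivOfLe hKH).symm.toMonoidHom)
          (Subgroup.subgroupOfEquivOfLe hKH).symm.surjective
      · exact Or.inr h) _ _ hH1 hH0
  obtain ⟨⟨k, h1⟩, hkh⟩ := hH1.2 h
  have hkh' : (k : H) * h1 = h := hkh
  have hh1 : MulAut.conj (h1 : H) • (H0.map φ.toMonoidHom) = H0.map φ.toMonoidHom := by
    exact Subgroup.conj_smul_eq_self_of_mem h1.2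
  have hk : MulAut.conj (k : H) • (H0.map φ.toMonoidHom) = H0 := by
    rw [← hkh', map_mul, mul_smul, hh1] at hh
    exact hh
  -- the complement as a subgroup of `G`
  set H2 : Subgroup G := H0.map H.subtype with hH2
  have hcardH2 : Nat.card H2 = Nat.card H' := by
    rw [hH2, Subgroup.card_map_of_injective H.subtype_injective, ← hidx]
    exact hH0.symm.index_eq_card.symm
  have hk' : ∀ z : H, z ∈ H0 → (k : H) * φ z * (k : H)⁻¹ ∈ H0 := by
    intro z hz
    have : MulAut.conj (k : H) (φ z) ∈ MulAut.conj (k : H) • (H0.map φ.toMonoidHom) :=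
      Subgroup.smul_mem_pointwise_smul _ _ _ ⟨z, hz, rfl⟩
    rw [hk] at this
    exact this
  have hfin : ∀ y ∈ H2, ((k : H) : G) * g * y * (((k : H) : G) * g)⁻¹ ∈ H2 := by
    rintro _ ⟨z, hz, rfl⟩
    refine ⟨_, hk' z hz, ?_⟩
    show ((k : H) : G) * (g * z * g⁻¹) * ((k : H) : G)⁻¹ = _
    simp only [Subgroup.coe_subtype, mul_inv_rev]
    group
  have hnorm : ((k : H) : G) * g ∈ normalizer (H2 : Set G) := by
    have hle : H2.map (MulAut.conj (((k : H) : G) * g)).toMonoidHom = H2 := by
      refine Subgroup.eq_of_le_of_card_ge ?_ ?_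
      · rintro _ ⟨y, hy, rfl⟩
        exact hfin y hy
      · rw [Subgroup.card_map_of_injective (f := (MulAut.conj (((k : H) : G) * g)).toMonoidHom)
          (MulAut.conj (((k : H) : G) * g)).injective]
    rw [Subgroup.mem_normalizer_iff]
    intro y
    constructor
    · exact hfin y
    · intro hy
      rw [← hle] at hy
      obtain ⟨z, hz, hzy⟩ := hy
      have h5 : MulAut.conj (((k : H) : G) * g) z = MulAut.conj (((k : H) : G) * g) y := hzy
      rw [← (MulAut.conj _).injective h5]
      exact hz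
  have hmk : QuotientGroup.mk' K (((k : H) : G) * g) = q := by
    rw [map_mul, hg]
    have : QuotientGroup.mk' K ((k : H) : G) = 1 := (QuotientGroup.eq_one_iff _).2 k.2
    rw [this, one_mul]
  obtain ⟨g2, hg2, hg2o⟩ := exists_lift
    ((QuotientGroup.mk' K).comp (normalizer (H2 : Set G)).subtype) q ho ⟨⟨_, hnorm⟩, hmk⟩
  have hcomm := hG H2 (by rw [hcardH2]; exact hH) g2 g2.2 (by rwa [Subgroup.orderOf_coe])
  obtain ⟨y, rfl⟩ := QuotientGroup.mk'_surjective K x
  have hy : y ∈ H := hx
  obtain ⟨⟨k3, h3⟩, hkh3⟩ := hH0.2 ⟨y, hy⟩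
  have hy2 : ((k3 : H) : G) * ((h3 : H) : G) = y := congrArg Subtype.val hkh3
  have hmk3 : QuotientGroup.mk' K y = QuotientGroup.mk' K ((h3 : H) : G) := by
    rw [← hy2, map_mul]
    have : QuotientGroup.mk' K ((k3 : H) : G) = 1 := (QuotientGroup.eq_one_iff _).2 k3.2
    rw [this, one_mul]
  have hc := hcomm ((h3 : H) : G) ⟨h3, h3.2, rfl⟩
  have hq2 : QuotientGroup.mk' K (g2 : G) = q := hg2
  rw [hmk3, ← hq2, ← map_mul, hc, map_mul]

/-- `π'`-closedness lifts through central `π`-subgroups. -/
theorem closedPr_of_central (N : Subgroup G) [N.Normal] (hNc : N ≤ center G)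
    (hN : PiNum π (Nat.card N)) (h : ClosedPr π (G ⧸ N)) : ClosedPr π G := by
  obtain ⟨M', hMc, hM1, hM2, hM3⟩ := exists_normal_of_closedPr h
  set M := M'.comap (QuotientGroup.mk' N) with hM
  have hNM : N ≤ M := by
    intro k hk
    have h1 : QuotientGroup.mk' N k = 1 := (QuotientGroup.eq_one_iff (N := N) k).2 hk
    rw [hM, Subgroup.mem_comap, h1]
    exact M'.one_mem
  refine closedPr_of_subgroup M (fun x hx => ?_) ?_
  · rw [hM, Subgroup.mem_comap, hM3]
    exact hx.mono (orderOf_map_dvd _ _)
  have hcardN : Nat.card (N.subgroupOf M) = Nat.card N :=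
    Nat.card_congr (Subgroup.subgroupOfEquivOfLe hNM).toEquiv
  have hcardM : Nat.card M = Nat.card N * Nat.card M' := card_comap_mk N M'
  have hidx : (N.subgroupOf M).index = Nat.card M' := by
    have h1 := Subgroup.card_mul_index (N.subgroupOf M)
    rw [hcardN, hcardM] at h1
    exact Nat.eq_of_mul_eq_mul_left Nat.card_pos h1
  have hcop : (Nat.card (N.subgroupOf M)).Coprime (N.subgroupOf M).index := by
    rw [hcardN, hidx]
    exact PiNum.coprime hN hM1
  obtain ⟨K0, hK0⟩ := Subgroup.exists_right_complement'_of_coprime hcop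
  have hKn : K0.Normal := by
    refine ⟨fun y hy x => ?_⟩
    obtain ⟨⟨n, k⟩, hnk⟩ := hK0.2 x
    have hx : x = (n : M) * (k : M) := hnk.symm
    have hn : ∀ z : M, (n : M) * z = z * (n : M) := fun z =>
      Subtype.ext (Subgroup.mem_center_iff.1 (hNc n.2) z).symm
    have h1 : x * y * x⁻¹ = (k : M) * y * (k : M)⁻¹ := by
      rw [hx, mul_inv_rev, mul_assoc (n : M), mul_assoc (n : M), hn]
      group
    rw [h1]
    exact K0.mul_mem (K0.mul_mem k.2 hy) (K0.inv_mem k.2)
  refine closedPr_of_normal K0 ?_ ?_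
  · rw [← hK0.symm.index_eq_card, hidx]
    exact hM1
  · rw [hK0.index_eq_card, hcardN]
    exact hN

end quotient


/-- **Reduction to simple groups.** -/
theorem main_reduction (π : Set ℕ) (P : ∀ (G : Type u) [Group G], Prop)
    (hsub : ∀ (G : Type u) [Group G] [Finite G], P G → ∀ H : Subgroup G, P H)
    (hquo : ∀ (G : Type u) [Group G] [Finite G], P G → ∀ (K : Subgroup G) [K.Normal],
      PiNum πᶜ (Nat.card K) → P (G ⧸ K))
    (hquoc : ∀ (G : Type u) [Group G] [Finite G], P G → ∀ (N : Subgroup G) [N.Normal],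
      N ≤ center G → PiNum π (Nat.card N) → P (G ⧸ N))
    (hS : ∀ (G : Type u) [Group G] [Finite G], P G → ∀ (K : Subgroup G) [K.Normal],
      PiNum πᶜ (Nat.card K) → PiNum π K.index → Group.IsSolvable K ∨ Group.IsSolvable (G ⧸ K))
    (hsimple : ∀ (G : Type u) [Group G] [Finite G] [IsSimpleGroup G], ¬ IsMulCommutative G → P G →
      Homog π G → (∀ H : Subgroup G, H ≠ ⊤ → ClosedPr π H) → ¬ PiNum π (Nat.card G) →
      ¬ PiNum πᶜ (Nat.card G) → False)
    (G : Type u) [Group G] [Finite G] (hP : P G) (hG : Homog π G) : ClosedPr π G := by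
  obtain ⟨n, hn⟩ : ∃ n, Nat.card G = n := ⟨_, rfl⟩
  induction n using Nat.strong_induction_on generalizing G with
  | _ n ih =>
    subst hn
    by_contra hcl
    -- proper subgroups are closed
    have hprop : ∀ H : Subgroup G, H ≠ ⊤ → ClosedPr π H := by
      intro H hH
      refine ih (Nat.card H) ?_ H (hsub G hP H) (hG.subgroup H) rfl
      refine lt_of_le_of_ne (Subgroup.card_le_card_group H) fun h => hH ?_
      exact Subgroup.eq_top_of_card_eq H h
    have hcardq : ∀ (K : Subgroup G) [K.Normal], K ≠ ⊥ → Nat.card (G ⧸ K) < Nat.card G := by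
      intro K _ hK
      have h1 := Subgroup.card_mul_index K
      have h2 : 1 < Nat.card K := Subgroup.one_lt_card_iff_ne_bot K |>.2 hK
      have h3 : 0 < K.index := Nat.pos_of_ne_zero Subgroup.index_ne_zero_of_finite
      have h4 : K.index = Nat.card (G ⧸ K) := rfl
      rw [← h4]
      nlinarith
    -- no nontrivial normal `π'`-subgroups
    have hno : ∀ (K : Subgroup G) [K.Normal], PiNum πᶜ (Nat.card K) → K = ⊥ := by
      intro K _ hK
      by_contra hne
      refine hcl (closedPr_of_quotient K hK (ih _ (hcardq K hne) (G ⧸ K) (hquo G hP K hK) ?_ rfl))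
      refine hG.quotient K hK fun H hKH hidx => ?_
      have hcardK : Nat.card (K.subgroupOf H) = Nat.card K :=
        Nat.card_congr (Subgroup.subgroupOfEquivOfLe hKH).toEquiv
      rcases hS H (hsub G hP H) (K.subgroupOf H) (by rwa [hcardK]) hidx with h | h
      · left
        exact Group.isSolvable_of_surjective (f := (Subgroup.subgroupOfEquivOfLe hKH).toMonoidHom)
          (Subgroup.subgroupOfEquivOfLe hKH).surjective
      · exact Or.inr h
    -- no proper nontrivial normal subgroups
    have hsim : ∀ N : Subgroup G, N.Normal → N = ⊥ ∨ N = ⊤ := by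
      intro N hN
      by_contra hcon
      push Not at hcon
      obtain ⟨hN1, hN2⟩ := hcon
      obtain ⟨K, hKc, hK1, hK2, hK3⟩ := exists_normal_of_closedPr (hprop N hN2)
      have hKbot : K = ⊥ := by
        have hKn : (K.map N.subtype).Normal := by
          exact ConjAct.normal_of_characteristic_of_normal
        have h1 := hno (K.map N.subtype) (by
          rwa [Subgroup.card_map_of_injective N.subtype_injective])
        rwa [Subgroup.map_eq_bot_iff_of_injective _ N.subtype_injective] at h1
      have hNpi : PiNum π (Nat.card N) := by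
        rw [hKbot, Subgroup.index_bot] at hK2
        exact hK2
      by_cases hc : centralizer (N : Set G) = ⊤
      · have hNc : N ≤ center G := by
          intro x hx
          rw [Subgroup.mem_center_iff]
          intro g
          have h1 : g ∈ centralizer (N : Set G) := by rw [hc]; trivial
          exact ((Subgroup.mem_centralizer_iff.1 h1) x hx).symm
        exact hcl (closedPr_of_central N hNc hNpi (ih _ (hcardq N hN1) (G ⧸ N)
          (hquoc G hP N hNc hNpi) (hG.quotient_of_le_center N hNpi) rfl))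
      · refine hcl (closedPr_of_subgroup _ (fun x hx => ?_) (hprop _ hc))
        rw [Subgroup.mem_centralizer_iff]
        intro y hy
        exact (hG N hNpi x (by rw [Subgroup.normalizer_eq_top]; trivial) hx y hy).symm
    have hnt : Nontrivial G := by
      by_contra hnt
      rw [not_nontrivial_iff_subsingleton] at hnt
      apply hcl
      apply closedPr_of_piNum
      rw [Nat.card_of_subsingleton (1 : G)]
      exact PiNum.one _
    have hsimp : IsSimpleGroup G := ⟨hsim⟩
    have hc1 : ¬ PiNum π (Nat.card G) := fun h => hcl (closedPr_of_piNum h)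
    have hc2 : ¬ PiNum πᶜ (Nat.card G) := fun h => hcl (closedPr_of_piNum' h)
    refine hsimple G (fun hcomm => ?_) hP hG hprop hc1 hc2
    have hcg : IsCyclic G := by
      let _ : CommGroup G := { ‹Group G› with mul_comm := fun a b => hcomm.is_comm.comm a b }
      exact IsSimpleGroup.isCyclic
    have hpr : (Nat.card G).Prime := by
      let _ : CommGroup G := { ‹Group G› with mul_comm := fun a b => hcomm.is_comm.comm a b }
      exact IsSimpleGroup.prime_card
    by_cases hp : Nat.card G ∈ π
    · refine hc1 fun p hpp hd => ?_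
      rwa [(Nat.prime_dvd_prime_iff_eq hpp hpr).1 hd]
    · refine hc2 fun p hpp hd => ?_
      rwa [(Nat.prime_dvd_prime_iff_eq hpp hpr).1 hd]

end Cfsg.Agent.H506.PiHomog
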