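import Mathlib
import Cfsg.Agent.H532.CopAct

/-!
# Coprime action by conjugation inside a group (helper506)
-/

set_option autoImplicit false
set_option linter.unusedSectionVars false

namespace Cfsg.Agent.H506.Cop

open Subgroup

variable {Y : Type*} [Group Y] {Q O : Subgroup Y}

/-- `Q` acts on `O` by conjugation. -/
def act (hn : ∀ y ∈ Q, ∀ x ∈ O, y * x * y⁻¹ ∈ O) : MulDistribMulAction Q O where
  smul y x := ⟨y * x * (y : Y)⁻¹, hn y y.2 x x.2⟩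
  one_smul x := Subtype.ext (by
    change ((1 : Q) : Y) * x * ((1 : Q) : Y)⁻¹ = x
    simp)
  mul_smul a b x := Subtype.ext (by
    change ((a * b : Q) : Y) * x * ((a * b : Q) : Y)⁻¹ = a * ((b : Y) * x * (b : Y)⁻¹) * (a : Y)⁻¹
    rw [Subgroup.coe_mul]; group)
  smul_mul a x y := Subtype.ext (by
    change (a : Y) * ((x * y : O) : Y) * (a : Y)⁻¹ = (a : Y) * x * (a : Y)⁻¹ * ((a : Y) * y * (a : Y)⁻¹)
    rw [Subgroup.coe_mul]; group)
  smul_one a := Subtype.ext (by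
    change (a : Y) * ((1 : O) : Y) * (a : Y)⁻¹ = 1
    simp)

variable [Finite Y] {f : ℕ} [hf : Fact f.Prime]

/-- An invariant Sylow subgroup. -/
theorem exists_inv_sylow (hs : Group.IsSolvable Q) (hn : ∀ y ∈ Q, ∀ x ∈ O, y * x * y⁻¹ ∈ O)
    (hcop : (Nat.card Q).Coprime (Nat.card O)) (f : ℕ) [hf : Fact f.Prime] :
    ∃ P : Sylow f O, ∀ y ∈ Q, ∀ x ∈ (P : Subgroup O).map O.subtype, y * x * y⁻¹ ∈ (P : Subgroup O).map O.subtype := by
  letI := act hn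
  obtain ⟨⟨P, hP⟩, -⟩ := H532.CopAct.inv_sylow (A := Q) (G := O) hcop (Or.inl hs) f
  refine ⟨P, ?_⟩
  rintro y hy _ ⟨x, hx, rfl⟩
  exact ⟨(⟨y, hy⟩ : Q) • x, H532.CopAct.smul_mem_of_smul_eq P hP ⟨y, hy⟩ hx, rfl⟩

/-- If `f ∤ |O : C_O(Q)|`, every `Q`-invariant `f`-subgroup of `O` is centralised by `Q`. -/
theorem cent_of_not_dvd (hs : Group.IsSolvable Q) (hn : ∀ y ∈ Q, ∀ x ∈ O, y * x * y⁻¹ ∈ O)
    (hcop : (Nat.card Q).Coprime (Nat.card O)) {U : Subgroup Y} (hU : IsPGroup f U) (hUO : U ≤ O)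
    (hUn : ∀ y ∈ Q, ∀ u ∈ U, y * u * y⁻¹ ∈ U) (hnd : ¬ f ∣ (centralizer (Q : Set Y)).relIndex O) :
    ∀ y ∈ Q, ∀ u ∈ U, y * u = u * y := by
  letI := act hn
  have hsm : ∀ (a : Q) (x : O), ((a • x : O) : Y) = (a : Y) * x * (a : Y)⁻¹ := fun _ _ => rfl
  obtain ⟨P, hP, hUP⟩ := H532.CopAct.exists_inv_sylow_ge (A := Q) (G := O) hcop (Or.inl hs) f (U.subgroupOf O)
    (hU.comap_of_injective O.subtype O.subtype_injective) (by
      intro a x hx
      rw [mem_subgroupOf, hsm]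
      exact hUn a a.2 x hx)
  have hcinv : ∀ (a : Q), ∀ x ∈ (centralizer (Q : Set Y)).subgroupOf O, a • x ∈ (centralizer (Q : Set Y)).subgroupOf O := by
    intro a x hx
    have h1 := mem_centralizer_iff.1 (mem_subgroupOf.1 hx) a a.2
    have h2 : a • x = x := Subtype.ext (by rw [hsm, h1, mul_inv_cancel_right])
    rw [h2]; exact hx
  obtain ⟨P', hP', hP'c⟩ := H532.CopAct.exists_inv_sylow_le (A := Q) (G := O) hcop (Or.inl hs) f
    ((centralizer (Q : Set Y)).subgroupOf O) hcinv hnd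
  obtain ⟨-, h2⟩ := H532.CopAct.inv_sylow (A := Q) (G := O) hcop (Or.inl hs) f
  obtain ⟨g, hg, hgP⟩ := h2 P' P hP' hP
  intro y hy u hu
  have h3 : (⟨u, hUO hu⟩ : O) ∈ (P : Subgroup O) := hUP (mem_subgroupOf.2 hu)
  rw [← hgP] at h3
  obtain ⟨p, hp, hpu⟩ := h3
  have hp2 := mem_centralizer_iff.1 (mem_subgroupOf.1 (hP'c hp)) y hy
  have hpu' : (g : Y) * p * (g : Y)⁻¹ = u := congrArg Subtype.val hpu
  have hgy : y * (g : Y) * y⁻¹ = g := congrArg Subtype.val (hg ⟨y, hy⟩)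
  have hgy' : y * (g : Y) = g * y := mul_inv_eq_iff_eq_mul.1 hgy
  have hp2' : y * (p : Y) = p * y := hp2
  rw [← hpu']
  calc y * ((g : Y) * p * (g : Y)⁻¹) = (y * g) * p * (g : Y)⁻¹ := by group
    _ = g * (y * p) * (g : Y)⁻¹ := by rw [hgy']; group
    _ = g * p * (y * (g : Y)⁻¹) := by rw [hp2']; group
    _ = g * p * ((g : Y)⁻¹ * (g * y) * (g : Y)⁻¹) := by group
    _ = g * p * (g : Y)⁻¹ * y := by rw [← hgy']; group

/-- `[U, Q] ≤ E`, `[E, Q] = 1`, `U` an `f`-group normalised by the `f'`-group `Q`: then `[U, Q] = 1`. -/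
theorem cent_of_comm {U : Subgroup Y} (hU : IsPGroup f U) {y : Y} (hy : (orderOf y).Coprime f)
    (hUn : ∀ u ∈ U, y * u * y⁻¹ * u⁻¹ ∈ U ∧ y * (y * u * y⁻¹ * u⁻¹) = (y * u * y⁻¹ * u⁻¹) * y) :
    ∀ u ∈ U, y * u = u * y := by
  intro u hu
  obtain ⟨h1, h2⟩ := hUn u hu
  set e := y * u * y⁻¹ * u⁻¹ with he
  have h3 : ∀ n : ℕ, y ^ n * u * (y ^ n)⁻¹ = e ^ n * u := by
    intro n
    induction n with
    | zero => simp
    | succ n ih =>
      have h4 : y ^ n * e = e * y ^ n := (show Commute y e from h2).pow_left n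
      calc y ^ (n + 1) * u * (y ^ (n + 1))⁻¹ = y ^ n * (y * u * y⁻¹ * u⁻¹) * u * (y ^ n)⁻¹ := by
            rw [pow_succ]; group
        _ = e * (y ^ n * u * (y ^ n)⁻¹) := by rw [← he, h4]; group
        _ = e ^ (n + 1) * u := by rw [ih, pow_succ']; group
  have h5 := h3 (orderOf y)
  rw [pow_orderOf_eq_one, inv_one, mul_one, one_mul] at h5
  have h6 : e ^ orderOf y = 1 := by
    have : e ^ orderOf y * u = 1 * u := by rw [← h5, one_mul]
    exact mul_right_cancel this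
  obtain ⟨k, hk⟩ := hU ⟨e, h1⟩
  have hk' : e ^ f ^ k = 1 := congrArg Subtype.val hk
  have h7 : orderOf e ∣ Nat.gcd (orderOf y) (f ^ k) := Nat.dvd_gcd (orderOf_dvd_of_pow_eq_one h6) (orderOf_dvd_of_pow_eq_one hk')
  rw [Nat.Coprime.pow_right k hy, Nat.dvd_one, orderOf_eq_one_iff] at h7
  rw [he] at h7
  have h8 : y * u * y⁻¹ = u := mul_inv_eq_one.1 h7
  exact mul_inv_eq_iff_eq_mul.1 h8

end Cfsg.Agent.H506.Cop
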