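import Mathlib
import Cfsg.Agent.Lib.Cores

/-!
# Perfect groups, transfer (helper506)
-/

set_option autoImplicit false
set_option linter.unusedSectionVars false

namespace Cfsg.Agent.H506.Perf

open Subgroup

section

variable {G : Type*} [Group G] [Finite G] {q : ℕ} [hq : Fact q.Prime]

/-- `Z(G) ∩ G' ∩ P = 1` for an abelian Sylow subgroup `P`. -/
theorem eq_one_of_central (P : Sylow q G) (hab : ∀ x ∈ P, ∀ y ∈ P, x * y = y * x) {z : G} (hz : z ∈ P)
    (hc : z ∈ center G) (hd : z ∈ commutator G) : z = 1 := by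
  letI : CommGroup P := { (inferInstance : Group P) with
    mul_comm := fun a b => Subtype.ext (hab a a.2 b b.2) }
  let ϕ : (P : Subgroup G) →* P := MonoidHom.id P
  have key : ∀ (k : ℕ) (g₀ : G), g₀⁻¹ * z ^ k * g₀ ∈ (P : Subgroup G) → g₀⁻¹ * z ^ k * g₀ = z ^ k := by
    intro k g₀ _
    have h1 : z ^ k ∈ center G := pow_mem hc k
    rw [mem_center_iff] at h1
    rw [mul_assoc, ← h1 g₀, inv_mul_cancel_left]
  have h1 := MonoidHom.transfer_eq_pow ϕ z key
  have h2 : MonoidHom.transfer ϕ z = 1 := by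
    have h3 : commutator G ≤ (MonoidHom.transfer ϕ).ker := Abelianization.commutator_subset_ker _
    exact h3 hd
  rw [h2] at h1
  have h3 : z ^ (P : Subgroup G).index = 1 := (congrArg Subtype.val h1).symm
  obtain ⟨k, hk⟩ := IsPGroup.iff_card.1 P.isPGroup'
  have h4 : orderOf z ∣ q ^ k := by rw [← hk]; exact Subgroup.orderOf_dvd_natCard _ hz
  have h5 : orderOf z ∣ Nat.gcd (P : Subgroup G).index (q ^ k) := Nat.dvd_gcd (orderOf_dvd_of_pow_eq_one h3) h4
  have h6 : (P : Subgroup G).index.Coprime (q ^ k) :=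
    Nat.Coprime.pow_right k ((Nat.Prime.coprime_iff_not_dvd hq.out).2 P.not_dvd_index).symm
  rw [h6, Nat.dvd_one, orderOf_eq_one_iff] at h5
  exact h5

end

section

variable {C : Type*} [Group C]

theorem hom_trivial (hp : commutator C = ⊤) {S : Type*} [Group S] [hS : Group.IsSolvable S] (f : C →* S) (c : C) :
    f c = 1 := by
  obtain ⟨n, hn⟩ := hS.solvable
  have h1 : ∀ k, derivedSeries C k = ⊤ := by
    intro k
    induction k with
    | zero => rfl
    | succ k ih => rw [derivedSeries_succ, ih]; exact hp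
  have h2 := map_derivedSeries_le_derivedSeries f n
  rw [h1 n, hn] at h2
  have h3 : f c ∈ (⊤ : Subgroup C).map f := ⟨c, mem_top _, rfl⟩
  exact mem_bot.1 (h2 h3)

theorem le_center_of_solvable_aut (hp : commutator C = ⊤) (N : Subgroup C) [N.Normal]
    (hS : Group.IsSolvable (MulAut N)) : N ≤ center C := by
  intro n hn
  rw [mem_center_iff]
  intro g
  have h1 := hom_trivial hp (MulAut.conjNormal (H := N)) g
  have h2 : ((MulAut.conjNormal g (⟨n, hn⟩ : N) : N) : C) = n := by rw [h1]; rfl
  rw [MulAut.conjNormal_apply] at h2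
  exact mul_inv_eq_iff_eq_mul.1 h2

theorem le_center_of_cyclic (hp : commutator C = ⊤) (N : Subgroup C) [N.Normal] [Finite N] (hc : IsCyclic N) :
    N ≤ center C := by
  apply le_center_of_solvable_aut hp N
  obtain ⟨e⟩ : Nonempty (MulAut N ≃* (ZMod (Nat.card N))ˣ) := ⟨IsCyclic.mulAutMulEquiv N⟩
  have hs : Group.IsSolvable (ZMod (Nat.card N))ˣ := inferInstance
  exact solvable_of_solvable_injective (f := e.toMonoidHom) e.injective

end

end Cfsg.Agent.H506.Perf
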