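import Mathlib
import Cfsg.Agent.H506.PiPSL
import Cfsg.Agent.OddCyclic.ClaimC.SzIso
import Cfsg.Agent.S0331

/-!
# `PSL(3, 3)`, `Sz(q)`, `A₇` and `π`-homogeneity
-/

set_option autoImplicit false

namespace Cfsg.Agent.H506.PiSmall

open Subgroup Cfsg.Agent.H506.PiHomog Cfsg.Agent.H506.PiReal Cfsg.Agent.H506.PiCyc Matrix

/-- A simple group in which the `π'`-elements form a subgroup is a `π`-group or a `π'`-group. -/
theorem of_closedPr {π : Set ℕ} {G : Type*} [Group G] [Finite G] [IsSimpleGroup G] (h : ClosedPr π G) :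
    PiNum π (Nat.card G) ∨ PiNum πᶜ (Nat.card G) := by
  obtain ⟨K, hKc, hK1, hK2, -⟩ := exists_normal_of_closedPr h
  have hKn : K.Normal := Subgroup.normal_of_characteristic K
  rcases hKn.eq_bot_or_eq_top with h | h
  · left
    rwa [h, Subgroup.index_bot] at hK2
  · right
    rwa [h, Subgroup.card_top] at hK1

theorem sz {F : Type*} [Field F] [Fintype F] {m : ℕ} (hm : 1 ≤ m)
    (hF : Fintype.card F = 2 ^ (2 * m + 1)) {G : Type*} [Group G] [Finite G] [IsSimpleGroup G]
    (hna : ¬ IsMulCommutative G) (e : G ≃* Cfsg.Lie.Sz F (2 ^ (m + 1))) {π : Set ℕ} (h2 : 2 ∉ π)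
    (hG : Homog π G) : PiNum πᶜ (Nat.card G) := by
  refine piNum_of_cyclic hna hG fun p _ hpπ _ P => ?_
  obtain ⟨e'⟩ := Cfsg.Agent.OddCyclic.ClaimC.SzIso.iso (F := F) hm hF
  let f : G ≃* Cfsg.Sz F m := e.trans e'.symm
  have hc := Cfsg.Agent.S0331.result hm hF (p := p) (by rintro rfl; exact h2 hpπ)
    (P.mapSurjective (f := f.toMonoidHom) f.surjective)
  have e2 : P ≃* (P : Subgroup G).map f.toMonoidHom :=
    (P : Subgroup G).equivMapOfInjective f.toMonoidHom f.injective
  have hc' : IsCyclic ↥((P : Subgroup G).map f.toMonoidHom) := hc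
  exact isCyclic_of_surjective e2.symm.toMonoidHom e2.symm.surjective

section three

variable {F : Type*} [Field F] [Fintype F]

local notation "SL3" => Matrix.SpecialLinearGroup (Fin 3) F
local notation "PSL3" => Matrix.ProjectiveSpecialLinearGroup (Fin 3) F

theorem card_three {p : ℕ} (hF : Fintype.card F = 3) (hp : p.Prime) (hd : p ∣ Nat.card PSL3) :
    p = 2 ∨ p = 3 ∨ p = 13 := by
  have h1 : Nat.card PSL3 ∣ Nat.card SL3 := Subgroup.card_quotient_dvd_card _
  have h2 := Cfsg.Agent.ClassicalGeometry.PSL2Basic.card_SL_mul (n := Fin 3) (F := F)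
  have h3 : Nat.card (GL (Fin 3) F) = 11232 := by
    rw [Matrix.card_GL_field, hF]
    simp [Fin.prod_univ_three]
  rw [h3, hF] at h2
  have h4 : p ∣ 11232 := by
    rw [← h2]
    exact Dvd.dvd.mul_right (hd.trans h1) _
  have h5 : (11232 : ℕ) = 2 ^ 5 * 3 ^ 3 * 13 := by norm_num
  rw [h5] at h4
  rcases (Nat.Prime.dvd_mul hp).1 h4 with h | h
  · rcases (Nat.Prime.dvd_mul hp).1 h with h | h
    · left; exact (Nat.prime_dvd_prime_iff_eq hp Nat.prime_two).1 (hp.dvd_of_dvd_pow h)
    · right; left; exact (Nat.prime_dvd_prime_iff_eq hp Nat.prime_three).1 (hp.dvd_of_dvd_pow h)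
  · right; right; exact (Nat.prime_dvd_prime_iff_eq hp (by norm_num)).1 h

/-- the transvection -/
def tv (F : Type*) [Field F] : Matrix.SpecialLinearGroup (Fin 3) F :=
  ⟨!![1, 1, 0; 0, 1, 0; 0, 0, 1], by simp [Matrix.det_fin_three]⟩

/-- an involution inverting it -/
def sg (F : Type*) [Field F] : Matrix.SpecialLinearGroup (Fin 3) F :=
  ⟨!![-1, 0, 0; 0, 1, 0; 0, 0, -1], by simp [Matrix.det_fin_three]⟩

omit [Fintype F] in
theorem sg_tv : sg F * tv F * (sg F)⁻¹ = (tv F)⁻¹ := by
  rw [mul_inv_eq_iff_eq_mul, eq_inv_mul_iff_mul_eq]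
  apply Subtype.ext
  simp only [Matrix.SpecialLinearGroup.coe_mul]
  show !![1, 1, 0; 0, 1, 0; 0, 0, 1] * (!![-1, 0, 0; 0, 1, 0; 0, 0, -1] * !![1, 1, 0; 0, 1, 0; 0, 0, 1]) =
    (!![-1, 0, 0; 0, 1, 0; 0, 0, -1] : Matrix (Fin 3) (Fin 3) F)
  ext i j
  fin_cases i <;> fin_cases j <;> simp [Matrix.mul_apply, Fin.sum_univ_three]

theorem psl_three (hF : Fintype.card F = 3) {G : Type*} [Group G] [Finite G] [IsSimpleGroup G]
    (e : G ≃* PSL3) {π : Set ℕ} (h2 : 2 ∉ π) (hG : Homog π G) (hc : ¬ PiNum π (Nat.card G)) :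
    PiNum πᶜ (Nat.card G) := by
  have hG' : Homog π PSL3 := hG.of_mulEquiv e
  have h3 : 3 ∉ π := by
    intro h3
    have hch : CharP F 3 := by
      obtain ⟨r, hr⟩ := CharP.exists F
      have hrp : r.Prime := CharP.char_is_prime F r
      have : Fact r.Prime := ⟨hrp⟩
      obtain ⟨n, -, hn⟩ := FiniteField.card F r
      rw [hF] at hn
      have : r ∣ 3 := by rw [hn]; exact dvd_pow_self r n.ne_zero
      rw [(Nat.prime_dvd_prime_iff_eq hrp Nat.prime_three).1 this] at hr
      exact hr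
    have h30 : (3 : F) = 0 := by exact_mod_cast CharP.cast_eq_zero F 3
    have : Fact (Nat.Prime 3) := ⟨Nat.prime_three⟩
    have ho : orderOf (QuotientGroup.mk' (center SL3) (tv F)) = 3 := by
      apply orderOf_eq_prime
      · rw [← map_pow]
        have : tv F ^ 3 = 1 := by
          apply Subtype.ext
          rw [Matrix.SpecialLinearGroup.coe_pow]
          show (!![1, 1, 0; 0, 1, 0; 0, 0, 1] : Matrix (Fin 3) (Fin 3) F) ^ 3 = 1
          have h4 : (1 : F) + (1 + 1) = 0 := by linear_combination h30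
          ext i j
          fin_cases i <;> fin_cases j <;> simp [pow_succ, Matrix.mul_apply, Fin.sum_univ_three, h4]
        rw [this, map_one]
      · intro h
        have h5 : tv F ∈ center SL3 := (QuotientGroup.eq_one_iff _).1 h
        rw [Matrix.SpecialLinearGroup.mem_center_iff] at h5
        obtain ⟨r, -, h6⟩ := h5
        have h7 := congrFun (congrFun h6 0) 1
        change _ = (1 : F) at h7
        simp at h7
    refine not_real hG' h2 Nat.prime_three h3 ho (g := QuotientGroup.mk' (center SL3) (sg F)) ?_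
    rw [← map_mul, ← map_inv, ← map_mul, sg_tv, map_inv]
  have hcl : ClosedPr π G := by
    refine closedPr_of_single hG (p := 13) (by norm_num) fun r hr hrp hrd => ?_
    have hrd' : r ∣ Nat.card PSL3 := by rwa [← Nat.card_congr e.toEquiv]
    rcases card_three hF hrp hrd' with rfl | rfl | rfl
    · exact absurd hr h2
    · exact absurd hr h3
    · rfl
  exact (of_closedPr hcl).resolve_left hc

end three

end Cfsg.Agent.H506.PiSmall
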