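import Mathlib
import Cfsg.Agent.H506.PiSmall
import Cfsg.Agent.S0206

/-!
# Abelian, cyclic and dihedral 2-groups: a class closed under subgroups and quotients
-/

set_option autoImplicit false

namespace Cfsg.Agent.H506.PiDih

open Subgroup Cfsg.Agent.H506.PiHomog

/-- Abelian, or with a cyclic subgroup of index at most `2` outside of which all elements square to `1`. -/
def Good (Q : Type*) [Group Q] : Prop :=
  (∀ a b : Q, a * b = b * a) ∨
    ∃ C : Subgroup Q, IsCyclic C ∧ C.index ≤ 2 ∧ C.index ≠ 0 ∧ ∀ x, x ∉ C → x * x = 1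

theorem Good.of_injective {Q R : Type*} [Group Q] [Group R] (f : R →* Q) (hf : Function.Injective f)
    (h : Good Q) : Good R := by
  rcases h with h | ⟨C, hC, h2, h0, hx⟩
  · left
    intro a b
    apply hf
    rw [map_mul, map_mul, h]
  · right
    refine ⟨C.comap f, ?_, ?_, ?_, fun x hxC => ?_⟩
    · exact isCyclic_of_injective ((f.subgroupComap C))
        (fun a b hab => Subtype.ext (hf (congrArg Subtype.val hab)))
    · rw [Subgroup.index_comap]
      have h1 : C.relIndex f.range ≤ C.relIndex ⊤ :=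
        Subgroup.relIndex_le_of_le_right le_top (by rwa [Subgroup.relIndex_top_right])
      rw [Subgroup.relIndex_top_right] at h1
      omega
    · rw [Subgroup.index_comap]
      intro h1
      exact h0 (Subgroup.index_eq_zero_of_relIndex_eq_zero h1)
    · apply hf
      rw [map_mul, map_one]
      exact hx _ hxC

theorem Good.of_surjective {Q R : Type*} [Group Q] [Group R] (f : Q →* R) (hf : Function.Surjective f)
    (h : Good Q) : Good R := by
  rcases h with h | ⟨C, hC, h2, h0, hx⟩
  · left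
    intro a b
    obtain ⟨a, rfl⟩ := hf a
    obtain ⟨b, rfl⟩ := hf b
    rw [← map_mul, ← map_mul, h]
  · right
    have hdvd := Subgroup.index_map_dvd C hf
    refine ⟨C.map f, ?_, ?_, ?_, fun x hxC => ?_⟩
    · exact isCyclic_of_surjective (f.subgroupMap C) (f.subgroupMap_surjective C)
    · exact (Nat.le_of_dvd (Nat.pos_of_ne_zero h0) hdvd).trans h2
    · intro h3
      rw [h3, Nat.zero_dvd] at hdvd
      exact h0 hdvd
    · obtain ⟨y, rfl⟩ := hf x
      have hy : y ∉ C := fun hy => hxC ⟨y, hy, rfl⟩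
      rw [← map_mul, hx y hy, map_one]

/-- The dihedral groups are in the class. -/
theorem good_dihedral (n : ℕ) : Good (DihedralGroup n) := by
  right
  have hr : ∀ i : ZMod n, DihedralGroup.r i ∈ zpowers (DihedralGroup.r (1 : ZMod n)) := by
    intro i
    obtain ⟨k, rfl⟩ := ZMod.intCast_surjective i
    exact ⟨k, DihedralGroup.r_one_zpow k⟩
  have hsr : ∀ i : ZMod n, DihedralGroup.sr i ∉ zpowers (DihedralGroup.r (1 : ZMod n)) := by
    rintro i ⟨k, hk⟩
    change DihedralGroup.r (1 : ZMod n) ^ k = _ at hk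
    rw [DihedralGroup.r_one_zpow] at hk
    cases hk
  have hidx : (zpowers (DihedralGroup.r (1 : ZMod n))).index = 2 := by
    rw [Subgroup.index_eq_two_iff]
    refine ⟨DihedralGroup.sr 0, fun b => ?_⟩
    cases b with
    | r i => exact Or.inr ⟨hr i, by rw [DihedralGroup.r_mul_sr]; exact hsr _⟩
    | sr i => exact Or.inl ⟨by rw [DihedralGroup.sr_mul_sr]; exact hr _, hsr i⟩
  refine ⟨zpowers (DihedralGroup.r 1), inferInstance, hidx.le, by rw [hidx]; norm_num, ?_⟩
  intro x hx
  cases x with
  | r i => exact absurd (hr i) hx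
  | sr i => exact DihedralGroup.sr_mul_self i

/-- A finite group of the class is abelian or dihedral. -/
theorem Good.comm_or_dihedral {Q : Type*} [Group Q] [Finite Q] (h : Good Q) :
    (∀ a b : Q, a * b = b * a) ∨ ∃ n : ℕ, 2 ≤ n ∧ Nonempty (Q ≃* DihedralGroup n) := by
  rcases h with h | ⟨C, hC, h2, h0, hx⟩
  · exact Or.inl h
  by_cases hcomm : ∀ a b : Q, a * b = b * a
  · exact Or.inl hcomm
  right
  have hCt : C ≠ ⊤ := by
    rintro rfl
    apply hcomm
    intro a b
    have := (IsCyclic.isMulCommutative (α := (⊤ : Subgroup Q))).is_comm.comm ⟨a, trivial⟩ ⟨b, trivial⟩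
    exact congrArg Subtype.val this
  obtain ⟨x, hxC⟩ : ∃ x, x ∉ C := by
    by_contra hcon
    push Not at hcon
    exact hCt (Subgroup.eq_top_iff' C |>.2 hcon)
  obtain ⟨⟨r, hr⟩, hgen⟩ := hC.exists_generator
  have hxx := hx x hxC
  have hx1 : x ≠ 1 := by rintro rfl; exact hxC C.one_mem
  have hxrC : x * r ∉ C := fun h => hxC ((Subgroup.mul_mem_cancel_right C hr).1 h)
  have hxr := hx _ hxrC
  have hxr1 : x * r ≠ 1 := fun h => hxrC (h ▸ C.one_mem)
  have hp2 : Fact (Nat.Prime 2) := ⟨Nat.prime_two⟩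
  have ho1 : orderOf x = 2 := orderOf_eq_prime (by rw [pow_two]; exact hxx) hx1
  have ho2 : orderOf (x * r) = 2 := orderOf_eq_prime (by rw [pow_two]; exact hxr) hxr1
  have hprod : x * (x * r) = r := by rw [← mul_assoc, hxx, one_mul]
  have hCz : ∀ c ∈ C, c ∈ zpowers r := by
    intro c hc
    obtain ⟨k, hk⟩ := hgen ⟨c, hc⟩
    exact ⟨k, congrArg Subtype.val hk⟩
  have hr1 : r ≠ 1 := by
    rintro rfl
    apply hcomm
    have hC1 : ∀ c ∈ C, c = 1 := by
      intro c hc
      obtain ⟨k, hk⟩ := hCz c hc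
      rw [← hk]
      exact one_zpow k
    have hall : ∀ a : Q, a * a = 1 := by
      intro a
      by_cases ha : a ∈ C
      · rw [hC1 a ha, one_mul]
      · exact hx a ha
    intro a b
    have h1 : ∀ a : Q, a⁻¹ = a := fun a => by rw [inv_eq_iff_mul_eq_one]; exact hall a
    calc a * b = (a * b)⁻¹ := (h1 _).symm
      _ = b⁻¹ * a⁻¹ := mul_inv_rev a b
      _ = b * a := by rw [h1, h1]
  have hne : x ≠ x * r := by
    intro h
    apply hr1
    have := congrArg (fun z => x⁻¹ * z) h
    simpa using this.symm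
  obtain ⟨e⟩ := Cfsg.Agent.S0206.result x (x * r) ho1 ho2 hne
  rw [hprod] at e
  have hidx : C.index = 2 := by
    have h1 : C.index ≠ 1 := fun h => hCt (Subgroup.index_eq_one.1 h)
    omega
  have hrcl : r ∈ closure ({x, x * r} : Set Q) := by
    have h1 : x * (x * r) ∈ closure ({x, x * r} : Set Q) :=
      Subgroup.mul_mem _ (Subgroup.subset_closure (by simp)) (Subgroup.subset_closure (by simp))
    rwa [hprod] at h1
  have hxcl : x ∈ closure ({x, x * r} : Set Q) := Subgroup.subset_closure (by simp)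
  have htop : closure ({x, x * r} : Set Q) = ⊤ := by
    rw [Subgroup.eq_top_iff']
    have hCle : ∀ c ∈ C, c ∈ closure ({x, x * r} : Set Q) := by
      intro c hc
      obtain ⟨k, hk⟩ := hCz c hc
      rw [← hk]
      exact Subgroup.zpow_mem _ hrcl k
    intro y
    by_cases hy : y ∈ C
    · exact hCle y hy
    · have h1 : x * y ∈ C := by
        rw [Subgroup.mul_mem_iff_of_index_two hidx]
        exact ⟨fun h => absurd h hxC, fun h => absurd h hy⟩
      have h2 : y = x * (x * y) := by rw [← mul_assoc, hxx, one_mul]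
      rw [h2]
      exact Subgroup.mul_mem _ hxcl (hCle _ h1)
  refine ⟨orderOf r, ?_, ⟨?_⟩⟩
  · have h1 : orderOf r ≠ 1 := fun h => hr1 (orderOf_eq_one_iff.1 h)
    have h2 := orderOf_pos r
    omega
  · exact (Subgroup.topEquiv.symm.trans (MulEquiv.subgroupCongr htop.symm)).trans e

end Cfsg.Agent.H506.PiDih
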