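import Mathlib
import Cfsg.Agent.H506.PiSmall
import Cfsg.Agent.S0205
import Cfsg.Agent.Classification.MinSimpleStrong

/-!
# `π`-homogeneous groups all of whose `π'`-subgroups are solvable, `π` a set of odd primes
-/

set_option autoImplicit false

namespace Cfsg.Agent.H506.PiMinSimple

open Subgroup Cfsg.Agent.H506.PiHomog Cfsg.Agent.H506.PiReal Cfsg.Agent.H506.PiCyc
  Cfsg.Agent.H506.PiSmall

universe u

/-- A `π`-group, `2 ∉ π`, is solvable. -/
theorem solvable_of_piNum {π : Set ℕ} (h2 : 2 ∉ π) {G : Type*} [Group G] [Finite G]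
    (h : PiNum π (Nat.card G)) : Group.IsSolvable G := by
  apply Cfsg.Agent.S0205.result
  by_contra hodd
  rw [Nat.not_odd_iff_even] at hodd
  exact h2 (h 2 Nat.prime_two hodd.two_dvd)

/-- All `π'`-subgroups are solvable. -/
def SolvSub (π : Set ℕ) (G : Type u) [Group G] : Prop :=
  ∀ H : Subgroup G, PiNum πᶜ (Nat.card H) → Group.IsSolvable H

variable {π : Set ℕ}

theorem SolvSub.subgroup {G : Type u} [Group G] (h : SolvSub π G) (H : Subgroup G) : SolvSub π H := by
  intro K hK
  have h1 := h (K.map H.subtype) (by rwa [Subgroup.card_map_of_injective H.subtype_injective])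
  exact Group.isSolvable_of_surjective
    (f := (K.equivMapOfInjective H.subtype H.subtype_injective).symm.toMonoidHom)
    (K.equivMapOfInjective H.subtype H.subtype_injective).symm.surjective

/-- the map from the preimage of a subgroup onto the subgroup -/
theorem exists_surj {G : Type u} [Group G] (N : Subgroup G) [N.Normal] (H : Subgroup (G ⧸ N))
    (M : Subgroup G) (hM : M = H.comap (QuotientGroup.mk' N)) :
    ∃ f : M →* H, Function.Surjective f ∧
      ∀ x : M, ((f x : H) : G ⧸ N) = QuotientGroup.mk' N x := by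
  subst hM
  refine ⟨(QuotientGroup.mk' N).subgroupComap H, ?_, fun x => rfl⟩
  exact MonoidHom.subgroupComap_surjective_of_surjective _ _ (QuotientGroup.mk'_surjective N)

theorem SolvSub.quotient {G : Type u} [Group G] [Finite G] (h : SolvSub π G) (K : Subgroup G) [K.Normal]
    (hK : PiNum πᶜ (Nat.card K)) : SolvSub π (G ⧸ K) := by
  intro H hH
  obtain ⟨f, hf, -⟩ := exists_surj K H _ rfl
  have h1 : Group.IsSolvable (H.comap (QuotientGroup.mk' K)) := h _ (by
    rw [card_comap_mk]
    exact hK.mul hH)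
  exact Group.isSolvable_of_surjective hf

theorem SolvSub.quotient_central {G : Type u} [Group G] [Finite G] (h : SolvSub π G) (N : Subgroup G)
    [N.Normal] (hN : PiNum π (Nat.card N)) : SolvSub π (G ⧸ N) := by
  intro H hH
  set M := H.comap (QuotientGroup.mk' N) with hM
  obtain ⟨f, hf, hf2⟩ := exists_surj N H M hM
  have hNM : N ≤ M := by
    intro k hk
    have h1 : QuotientGroup.mk' N k = 1 := (QuotientGroup.eq_one_iff (N := N) k).2 hk
    rw [hM, Subgroup.mem_comap, h1]
    exact H.one_mem
  have hcardN : Nat.card (N.subgroupOf M) = Nat.card N :=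
    Nat.card_congr (Subgroup.subgroupOfEquivOfLe hNM).toEquiv
  have hcardM : Nat.card M = Nat.card N * Nat.card H := card_comap_mk N H
  have hidx : (N.subgroupOf M).index = Nat.card H := by
    have h1 := Subgroup.card_mul_index (N.subgroupOf M)
    rw [hcardN, hcardM] at h1
    exact Nat.eq_of_mul_eq_mul_left Nat.card_pos h1
  have hcop : (Nat.card (N.subgroupOf M)).Coprime (N.subgroupOf M).index := by
    rw [hcardN, hidx]
    exact PiNum.coprime hN hH
  obtain ⟨K0, hK0⟩ := Subgroup.exists_right_complement'_of_coprime hcop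
  have hK0s : Group.IsSolvable K0 := by
    apply h.subgroup M K0
    rw [← hK0.symm.index_eq_card, hidx]
    exact hH
  have hsurj : Function.Surjective (f.comp K0.subtype) := by
    intro y
    obtain ⟨x, rfl⟩ := hf y
    obtain ⟨⟨n, k⟩, hnk⟩ := hK0.2 x
    refine ⟨k, ?_⟩
    have hn : f (n : M) = 1 := by
      apply Subtype.ext
      rw [hf2]
      exact (QuotientGroup.eq_one_iff _).2 n.2
    have hx : x = (n : M) * (k : M) := hnk.symm
    rw [hx, map_mul, hn, one_mul]
    rfl
  exact Group.isSolvable_of_surjective hsurj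

/-- **Theorem.** -/
theorem closedPr_of_solvSub {G : Type u} [Group G] [Finite G] (h2 : 2 ∉ π) (hP : SolvSub π G)
    (hG : Homog π G) : ClosedPr π G := by
  refine main_reduction π (fun G _ => SolvSub π G) (fun G _ _ h H => h.subgroup H)
    (fun G _ _ h K _ hK => h.quotient K hK) (fun G _ _ h N _ _ hN => h.quotient_central N hN) ?_ ?_
    G hP hG
  · intro G _ _ h K _ hK _
    exact Or.inl (h K hK)
  · intro G _ _ hs hna h hh hcl hc1 hc2
    have hmin : IsMinimalSimple G := by
      refine ⟨hs, hna, fun H hH => ?_⟩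
      obtain ⟨K, hKc, hK1, hK2, -⟩ := exists_normal_of_closedPr (hcl H hH)
      have hKn : K.Normal := Subgroup.normal_of_characteristic K
      have h3 : Group.IsSolvable K := h.subgroup H K hK1
      have h4 : Group.IsSolvable (H ⧸ K) := solvable_of_piNum h2 hK2
      exact (Group.isSolvable_iff_subgroup_quotient K).2 ⟨h3, h4⟩
    apply hc2
    have hPSL : ∀ (F : Type) [Field F] [Fintype F], 4 ≤ Fintype.card F →
        Nonempty (G ≃* Matrix.ProjectiveSpecialLinearGroup (Fin 2) F) → PiNum πᶜ (Nat.card G) := by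
      intro F _ _ h4 ⟨e⟩
      rw [Nat.card_congr e.toEquiv]
      exact PiPSL.psl_two h4 h2 (hh.of_mulEquiv e)
    rcases Classification.MinSimpleStrong.concl hmin with
      ⟨p, hp, F, _, _, hF, he⟩ | ⟨p, hp, hp2, F, _, _, hF, he⟩ | ⟨p, hp, hp5, F, _, _, hF, he⟩ |
      ⟨F, _, _, hF, ⟨e⟩⟩ | ⟨F, _, _, m, hm, -, hF, ⟨e⟩⟩
    · refine hPSL F ?_ he
      rw [hF]
      calc 4 = 2 ^ 2 := by norm_num
        _ ≤ 2 ^ p := Nat.pow_le_pow_right (by norm_num) hp.two_le
    · refine hPSL F ?_ he
      rw [hF]
      calc 4 ≤ 3 ^ 2 := by norm_num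
        _ ≤ 3 ^ p := Nat.pow_le_pow_right (by norm_num) hp.two_le
    · refine hPSL F ?_ he
      rw [hF]
      omega
    · exact psl_three hF e h2 hh hc1
    · exact sz hm hF hna e h2 hh

end Cfsg.Agent.H506.PiMinSimple
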