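import Mathlib
import Cfsg.Agent.H746.PrimV2

/-!
# Theorem N: the fixed points of a group normalising a ppd element (helper506)
-/

set_option autoImplicit false
set_option linter.unusedSectionVars false

namespace Cfsg.Agent.H506.SC

open Cfsg.Agent.H746.PrimElem Module

variable {t a l : ℕ} [Fact t.Prime] {V : Type*} [AddCommGroup V] [Module (ZMod t) V] [Finite V]
  {x : V ≃ₗ[ZMod t] V}

theorem card_fix_pow (h : Prim t a l x) (Q : Subgroup (V ≃ₗ[ZMod t] V))
    (hQn : ∀ z ∈ Q, z * x * z⁻¹ ∈ Subgroup.zpowers x) (hQc : ∀ z ∈ Q, z * x = x * z → z = 1) {v₀ : V} (hv₀ : v₀ ≠ 0)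
    (hfix : ∀ z ∈ Q, z v₀ = v₀) : (Nat.card {v : V // ∀ z ∈ Q, z v = v}) ^ (Nat.card Q) = Nat.card V := by
  classical
  haveI := h.nontrivial
  obtain ⟨L, _, _, _, ι, hc, hs, hi⟩ := h.exists_field
  let D : FieldData x L := ⟨ι, hc, hs, hi⟩
  have hinj := D.injective
  obtain ⟨hfin, hsurj⟩ := h.finrank_L D hv₀
  have hex : ∀ z : Q, ∃ φ : L →ₐ[ZMod t] L, ∀ f v, ι (φ f) ((z : V ≃ₗ[ZMod t] V) v) = (z : V ≃ₗ[ZMod t] V) (ι f v) :=
    fun z => exists_conj h D (hQn z z.2)
  choose φ hφ using hex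
  have huniq : ∀ (z : Q) (ψ : L →ₐ[ZMod t] L),
      (∀ f v, ι (ψ f) ((z : V ≃ₗ[ZMod t] V) v) = (z : V ≃ₗ[ZMod t] V) (ι f v)) → ψ = φ z := by
    intro z ψ hψ
    apply AlgHom.ext
    intro f
    apply hinj
    apply LinearMap.ext
    intro v
    have h1 := hψ f ((z : V ≃ₗ[ZMod t] V).symm v)
    have h2 := hφ z f ((z : V ≃ₗ[ZMod t] V).symm v)
    rw [LinearEquiv.apply_symm_apply] at h1 h2
    exact h1.trans h2.symm
  have hone : φ 1 = AlgHom.id (ZMod t) L := (huniq 1 (AlgHom.id (ZMod t) L) fun f v => rfl).symm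
  have hmul : ∀ y z : Q, φ (y * z) = (φ y).comp (φ z) := by
    intro y z
    refine (huniq (y * z) _ fun f v => ?_).symm
    have h1 := hφ y (φ z f) ((z : V ≃ₗ[ZMod t] V) v)
    rw [hφ z f v] at h1
    exact h1
  let Ψ : Q →* (L ≃ₐ[ZMod t] L) :=
    { toFun := fun z => AlgEquiv.ofAlgHom (φ z) (φ z⁻¹) (by rw [← hmul, mul_inv_cancel, hone])
        (by rw [← hmul, inv_mul_cancel, hone])
      map_one' := by
        apply AlgEquiv.ext
        intro f
        change φ 1 f = f
        rw [hone]; rfl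
      map_mul' := fun y z => by
        apply AlgEquiv.ext
        intro f
        change φ (y * z) f = φ y (φ z f)
        rw [hmul]; rfl }
  have hΨ : ∀ z f, Ψ z f = φ z f := fun z f => rfl
  have hΨinj : Function.Injective Ψ := by
    rw [injective_iff_map_eq_one]
    intro z hz
    obtain ⟨ξ, hξ⟩ := hs (x : V →ₗ[ZMod t] V) (fun v => rfl)
    apply Subtype.ext
    apply hQc z z.2
    apply LinearEquiv.ext
    intro v
    have h1 : φ z ξ = ξ := by rw [← hΨ, hz]; rfl
    have h2 := hφ z ξ v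
    rw [h1, hξ] at h2
    exact h2.symm
  have hev : ∀ (z : Q) (f : L), (z : V ≃ₗ[ZMod t] V) (ι f v₀) = ι (φ z f) v₀ := by
    intro z f
    have := hφ z f v₀
    rw [hfix z z.2] at this
    exact this.symm
  have hevinj : ∀ f g : L, ι f v₀ = ι g v₀ → f = g := by
    intro f g hfg
    apply sub_eq_zero.1
    apply hi _ v₀ hv₀
    rw [map_sub, LinearMap.sub_apply, hfg, sub_self]
  have hcardV : Nat.card V = Nat.card L :=
    (Nat.card_congr (Equiv.ofBijective (fun f : L => ι f v₀) ⟨fun f g hfg => hevinj f g hfg, fun v => hsurj v⟩)).symm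
  have hcardF : Nat.card {v : V // ∀ z ∈ Q, z v = v} = Nat.card (IntermediateField.fixedField Ψ.range) := by
    refine (Nat.card_congr (Equiv.ofBijective
      (fun f : IntermediateField.fixedField Ψ.range => (⟨ι (f : L) v₀, fun z hz => ?_⟩ : {v : V // ∀ z ∈ Q, z v = v}))
      ⟨?_, ?_⟩)).symm
    · have h1 : Ψ ⟨z, hz⟩ (f : L) = f := by
        have := (IntermediateField.mem_fixedField_iff _ _).1 f.2 (Ψ ⟨z, hz⟩) ⟨_, rfl⟩
        exact this
      have h2 := hev ⟨z, hz⟩ f
      rw [← hΨ, h1] at h2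
      exact h2
    · intro f g hfg
      apply Subtype.ext
      exact hevinj _ _ (congrArg Subtype.val hfg)
    · rintro ⟨v, hv⟩
      obtain ⟨f, hf⟩ := hsurj v
      refine ⟨⟨f, ?_⟩, Subtype.ext hf⟩
      rw [IntermediateField.mem_fixedField_iff]
      rintro _ ⟨z, rfl⟩
      rw [hΨ]
      apply hevinj
      rw [← hev z f]
      have h3 : ι f v₀ = v := hf
      rw [h3]
      exact hv z z.2
  have hcardQ : Nat.card Q = Nat.card Ψ.range :=
    Nat.card_congr (MonoidHom.ofInjective hΨinj).toEquiv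
  have h1 := IntermediateField.finrank_fixedField_eq_card Ψ.range
  have h2 := Module.natCard_eq_pow_finrank (K := IntermediateField.fixedField Ψ.range) (V := L)
  rw [h1] at h2
  rw [hcardF, hcardQ, hcardV, h2]

theorem mem_zpowers_of_comm (h : Prim t a l x) {y : V ≃ₗ[ZMod t] V} (hy : y * x = x * y) (hyl : y ^ l = 1) :
    y ∈ Subgroup.zpowers x := by
  haveI := h.nontrivial
  obtain ⟨L, _, _, _, ι, hc, hs, hi⟩ := h.exists_field
  let D : FieldData x L := ⟨ι, hc, hs, hi⟩
  have hinj := D.injective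
  obtain ⟨ξ, hξ⟩ := hs (x : V →ₗ[ZMod t] V) (fun v => rfl)
  obtain ⟨f, hf⟩ := hs (y : V →ₗ[ZMod t] V) (fun v => LinearEquiv.congr_fun hy v)
  have hpow : ∀ (z : V ≃ₗ[ZMod t] V) (n : ℕ), ((z ^ n : V ≃ₗ[ZMod t] V) : Module.End (ZMod t) V) =
      (z : Module.End (ZMod t) V) ^ n := by
    intro z n
    induction n with
    | zero => rfl
    | succ n ih =>
      rw [pow_succ, pow_succ, ← ih]
      rfl
  have hξl : ξ ^ l = 1 := by
    apply hinj
    change ι (ξ ^ l) = ι 1
    rw [map_pow, map_one, hξ, ← hpow, ← h.hx, pow_orderOf_eq_one]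
    rfl
  have hfl : f ^ l = 1 := by
    apply hinj
    change ι (f ^ l) = ι 1
    rw [map_pow, map_one, hf, ← hpow, hyl]
    rfl
  have hξ1 : ξ ≠ 1 := by
    intro h1
    apply h.ne_one
    rw [h1, map_one] at hξ
    apply LinearEquiv.ext
    intro v
    exact (LinearMap.congr_fun hξ v).symm
  haveI : Fact l.Prime := ⟨h.hl⟩
  have hprim : IsPrimitiveRoot ξ l := by
    rw [← orderOf_eq_prime hξl hξ1]
    exact IsPrimitiveRoot.orderOf ξ
  obtain ⟨i, -, hi2⟩ := hprim.eq_pow_of_pow_eq_one hfl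
  refine ⟨i, ?_⟩
  change x ^ (i : ℤ) = y
  rw [zpow_natCast]
  apply LinearEquiv.ext
  intro v
  have h2 : ((x ^ i : V ≃ₗ[ZMod t] V) : Module.End (ZMod t) V) = (y : Module.End (ZMod t) V) := by
    rw [hpow, ← hξ, ← map_pow, hi2, hf]
  exact LinearMap.congr_fun h2 v

/-- A finite group of linear maps commuting with `x` is cyclic. -/
theorem cyc_of_comm (h : Prim t a l x) {H : Type*} [Group H] [Finite H] (f : H →* (V ≃ₗ[ZMod t] V))
    (hf : Function.Injective f) (hc : ∀ y, f y * x = x * f y) : IsCyclic H := by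
  haveI := h.nontrivial
  obtain ⟨L, _, _, _, ι, hcc, hs, hi⟩ := h.exists_field
  let D : FieldData x L := ⟨ι, hcc, hs, hi⟩
  have hinj := D.injective
  have hex : ∀ y : H, ∃ g : L, ι g = (f y : V →ₗ[ZMod t] V) := fun y =>
    hs _ (fun v => LinearEquiv.congr_fun (hc y) v)
  choose g hg using hex
  let ψ : H →* L :=
    { toFun := g
      map_one' := by
        apply hinj
        rw [hg, map_one, map_one]
        rfl
      map_mul' := fun y z => by
        apply hinj
        rw [hg, map_mul, map_mul, hg, hg]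
        rfl }
  refine isCyclic_of_subgroup_isDomain ψ ?_
  intro y z hyz
  apply hf
  apply LinearEquiv.ext
  intro v
  have h1 : g y = g z := hyz
  have h2 : (f y : V →ₗ[ZMod t] V) = (f z : V →ₗ[ZMod t] V) := by rw [← hg, ← hg, h1]
  exact LinearMap.congr_fun h2 v

end Cfsg.Agent.H506.SC
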