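import Mathlib
import Cfsg.Prelude.Def_Local

/-!
# S4307: the condition of Theorem N (helper506)
-/

set_option autoImplicit false

namespace Cfsg.Agent.H506.SC

/-- Every `w ≠ 1` in `W` is fixed by a Sylow `q`-subgroup of `C` which is central in the stabiliser of `w`. -/
def SC (q : ℕ) {C W : Type*} [Group C] [Group W] (φ : C →* MulAut W) : Prop :=
  ∀ w : W, w ≠ 1 → ∃ Q : Sylow q C, (∀ x ∈ Q, φ x w = w) ∧ ∀ g : C, φ g w = w → ∀ x ∈ Q, g * x = x * g

/-- **Theorem N** (the statement; it is proved in `Cfsg.Agent.H506.ThmN`). -/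
def ThmN : Prop :=
  ∀ (C W : Type) [Group C] [Finite C] [CommGroup W] [Finite W] (q r : ℕ) (_ : q.Prime) (_ : r.Prime) (_ : q ≠ r)
    (_ : ∀ w : W, w ^ r = 1) (_ : ∃ w : W, w ≠ 1) (φ : C →* MulAut W), SC q φ → Cfsg.IsPSolvable q C

end Cfsg.Agent.H506.SC
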