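import Mathlib
import Cfsg.Agent.H506.SCDef

/-!
# Theorem N: uniqueness of `Q_w`, the partition of `W` (helper506)
-/

set_option autoImplicit false
set_option linter.dupNamespace false
set_option linter.unusedSectionVars false

namespace Cfsg.Agent.H506.SC

open Subgroup

open scoped Pointwise

section fx

variable {C W : Type*} [Group C] [Group W] (φ : C →* MulAut W)

/-- The fixed points of a subgroup. -/
def fx (H : Subgroup C) : Subgroup W where
  carrier := {w | ∀ h ∈ H, φ h w = w}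
  one_mem' := fun h _ => map_one _
  mul_mem' := fun {a b} ha hb h hh => by rw [map_mul, ha h hh, hb h hh]
  inv_mem' := fun {a} ha h hh => by rw [map_inv, ha h hh]

variable {φ}

theorem mem_fx {H : Subgroup C} {w : W} : w ∈ fx φ H ↔ ∀ h ∈ H, φ h w = w := Iff.rfl

theorem fx_anti {H K : Subgroup C} (h : H ≤ K) : fx φ K ≤ fx φ H := fun _ hw x hx => hw x (h hx)

theorem φ_mul (a b : C) (w : W) : φ (a * b) w = φ a (φ b w) := by rw [map_mul]; rfl

theorem φ_inv_cancel (a : C) (w : W) : φ a⁻¹ (φ a w) = w := by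
  rw [← φ_mul, inv_mul_cancel, map_one]; rfl

theorem φ_cancel_inv (a : C) (w : W) : φ a (φ a⁻¹ w) = w := by
  rw [← φ_mul, mul_inv_cancel, map_one]; rfl

theorem φ_one (w : W) : φ 1 w = w := by rw [map_one]; rfl

theorem mem_fx_zpowers {x : C} {w : W} : w ∈ fx φ (zpowers x) ↔ φ x w = w := by
  constructor
  · intro h
    exact h x (mem_zpowers x)
  · intro h
    have h1 : zpowers x ≤ (MulAction.stabilizer (MulAut W) w).comap φ := by
      rw [zpowers_le]
      exact h
    intro y hy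
    exact h1 hy

/-- The stabiliser of `w`. -/
def st (φ : C →* MulAut W) (w : W) : Subgroup C := (MulAction.stabilizer (MulAut W) w).comap φ

theorem mem_st {w : W} {g : C} : g ∈ st φ w ↔ φ g w = w := Iff.rfl

theorem st_conj (g : C) (w : W) {x : C} : x ∈ st φ (φ g w) ↔ g⁻¹ * x * g ∈ st φ w := by
  rw [mem_st, mem_st, φ_mul, φ_mul]
  constructor
  · intro h
    rw [h, φ_inv_cancel]
  · intro h
    have := congrArg (φ g) h
    rwa [φ_cancel_inv] at this

end fx

section uniq

variable {C W : Type*} [Group C] [Finite C] [Group W] {φ : C →* MulAut W} {q : ℕ} [hq : Fact q.Prime]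

theorem le_of_comm (Q Q' : Sylow q C) (h : ∀ x ∈ Q, ∀ y ∈ Q', x * y = y * x) : Q = Q' := by
  have h1 : (Q : Subgroup C) ≤ normalizer ((Q' : Subgroup C) : Set C) := by
    intro x hx
    rw [mem_normalizer_iff]
    intro y
    constructor
    · intro hy
      rw [h x hx y hy, mul_inv_cancel_right]; exact hy
    · intro hy
      have h2 := h x hx _ hy
      have e : x * y * x⁻¹ = y := by
        have h3 : x * (x * y * x⁻¹) = x * y := by rw [h2]; group
        exact mul_left_cancel h3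
      rw [e] at hy; exact hy
  have h2 : (Q : Subgroup C) ≤ Q' := by
    have h3 := IsPGroup.inf_normalizer_sylow Q.isPGroup' Q'
    intro x hx
    have h4 : x ∈ (Q : Subgroup C) ⊓ normalizer (Q' : Set C) := ⟨hx, h1 hx⟩
    exact (h3.le h4).2
  apply Sylow.ext
  exact (Q.is_maximal' Q'.isPGroup' h2).symm

variable (h : SC q φ)

include h

/-- The stabiliser of `w` centralises every Sylow subgroup fixing `w`. -/
theorem SC.comm {w : W} (hw : w ≠ 1) {Q : Sylow q C} (hQ : ∀ x ∈ Q, φ x w = w) {g : C} (hg : φ g w = w) {x : C}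
    (hx : x ∈ Q) : g * x = x * g := by
  obtain ⟨Q₀, h1, h2⟩ := h w hw
  have : Q = Q₀ := le_of_comm Q Q₀ fun x hx y hy => h2 x (hQ x hx) y hy
  rw [this] at hx
  exact h2 g hg x hx

theorem SC.unique {w : W} (hw : w ≠ 1) {Q Q' : Sylow q C} (hQ : ∀ x ∈ Q, φ x w = w) (hQ' : ∀ x ∈ Q', φ x w = w) :
    Q = Q' :=
  le_of_comm Q Q' fun x hx _ hy => h.comm hw hQ' (hQ x hx) hy

theorem SC.ab [Nontrivial W] (Q : Sylow q C) : ∀ x ∈ Q, ∀ y ∈ Q, x * y = y * x := by
  obtain ⟨w, hw⟩ := exists_ne (1 : W)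
  obtain ⟨Q₀, h1, h2⟩ := h w hw
  obtain ⟨g, rfl⟩ := MulAction.exists_smul_eq C Q₀ Q
  rintro x ⟨a, ha, rfl⟩ y ⟨b, hb, rfl⟩
  change MulAut.conj g a * MulAut.conj g b = MulAut.conj g b * MulAut.conj g a
  rw [← map_mul, ← map_mul, h2 a (h1 a ha) b hb]

end uniq

section conj

variable {C W : Type*} [Group C] [Group W] {φ : C →* MulAut W} {q : ℕ} [hq : Fact q.Prime]

theorem mem_smul_sylow {Q : Sylow q C} {g x : C} : x ∈ g • Q ↔ g⁻¹ * x * g ∈ Q := by
  have h1 : x ∈ ((g • Q : Sylow q C) : Subgroup C) ↔ x ∈ (MulAut.conj g • (Q : Subgroup C)) := by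
    rw [Sylow.coe_subgroup_smul]
  have h2 : x ∈ (MulAut.conj g • (Q : Subgroup C)) ↔ (MulAut.conj g)⁻¹ • x ∈ (Q : Subgroup C) :=
    Subgroup.mem_pointwise_smul_iff_inv_smul_mem
  have h3 : (MulAut.conj g)⁻¹ • x = g⁻¹ * x * g := by
    rw [← map_inv]
    simp [MulAut.smul_def]
  rw [h3] at h2
  exact h1.trans h2

theorem mem_fx_smul {Q : Sylow q C} {g : C} {w : W} :
    w ∈ fx φ ((g • Q : Sylow q C) : Subgroup C) ↔ φ g⁻¹ w ∈ fx φ (Q : Subgroup C) := by
  constructor
  · intro hw x hx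
    have h1 := hw (g * x * g⁻¹) (mem_smul_sylow.2 (by
      have : g⁻¹ * (g * x * g⁻¹) * g = x := by group
      rw [this]; exact hx))
    rw [φ_mul, φ_mul] at h1
    have := congrArg (φ g⁻¹) h1
    rwa [φ_inv_cancel] at this
  · intro hw x hx
    have h1 := hw _ (mem_smul_sylow.1 hx)
    rw [φ_mul, φ_mul, φ_cancel_inv] at h1
    have := congrArg (φ g) h1
    rwa [φ_cancel_inv, φ_cancel_inv] at this

theorem card_fx_eq [Finite C] (Q Q' : Sylow q C) :
    Nat.card (fx φ (Q : Subgroup C)) = Nat.card (fx φ (Q' : Subgroup C)) := by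
  obtain ⟨g, rfl⟩ := MulAction.exists_smul_eq C Q Q'
  refine Nat.card_congr
    { toFun := fun w => ⟨φ g w, mem_fx_smul.2 (by rw [φ_inv_cancel]; exact w.2)⟩
      invFun := fun w => ⟨φ g⁻¹ w, mem_fx_smul.1 w.2⟩
      left_inv := fun w => Subtype.ext (φ_inv_cancel g _)
      right_inv := fun w => Subtype.ext (φ_cancel_inv g _) }

end conj

section count

variable {C W : Type*} [Group C] [Finite C] [Group W] [Finite W] {φ : C →* MulAut W} {q : ℕ} [hq : Fact q.Prime]

/-- The partition of `W`. -/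
theorem SC.card (h : SC q φ) (Q : Sylow q C) :
    Nat.card W = Nat.card (Sylow q C) * (Nat.card (fx φ (Q : Subgroup C)) - 1) + 1 := by
  classical
  have hsplit : ∀ (H : Subgroup W), Nat.card H = Nat.card {w : W // w ≠ 1 ∧ w ∈ H} + 1 := by
    intro H
    have e : Option {w : W // w ≠ 1 ∧ w ∈ H} ≃ H :=
      { toFun := fun o => o.elim ⟨1, H.one_mem⟩ fun w => ⟨w.1, w.2.2⟩
        invFun := fun w => if hw : (w : W) = 1 then none else some ⟨w, hw, w.2⟩
        left_inv := by
          rintro (_ | ⟨w, hw, hw'⟩)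
          · simp
          · simp [hw]
        right_inv := by
          intro w
          by_cases hw : (w : W) = 1
          · simp [hw]
            exact Subtype.ext hw.symm
          · simp [hw] }
    rw [← Nat.card_congr e, Finite.card_option]
  have htop := hsplit ⊤
  have h2 : Nat.card (⊤ : Subgroup W) = Nat.card W := Nat.card_congr Subgroup.topEquiv.toEquiv
  have e2 : {w : W // w ≠ 1 ∧ w ∈ (⊤ : Subgroup W)} ≃
      (Σ P : Sylow q C, {w : W // w ≠ 1 ∧ w ∈ fx φ (P : Subgroup C)}) :=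
    { toFun := fun w => ⟨(h w.1 w.2.1).choose, ⟨w.1, w.2.1, (h w.1 w.2.1).choose_spec.1⟩⟩
      invFun := fun p => ⟨p.2.1, p.2.2.1, mem_top _⟩
      left_inv := fun w => rfl
      right_inv := by
        rintro ⟨P, ⟨w, hw, hw'⟩⟩
        have : (h w hw).choose = P := h.unique hw (h w hw).choose_spec.1 hw'
        subst this
        rfl }
  have h3 : ∀ P : Sylow q C, Nat.card {w : W // w ≠ 1 ∧ w ∈ fx φ (P : Subgroup C)} =
      Nat.card (fx φ (Q : Subgroup C)) - 1 := by
    intro P
    have := hsplit (fx φ (P : Subgroup C))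
    have h4 := card_fx_eq (φ := φ) P Q
    omega
  have := Fintype.ofFinite (Sylow q C)
  rw [Nat.card_congr e2, Nat.card_sigma, h2] at htop
  simp_rw [h3] at htop
  rw [htop, Finset.sum_const, Finset.card_univ, smul_eq_mul, ← Nat.card_eq_fintype_card]

end count

end Cfsg.Agent.H506.SC
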