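import Mathlib
import Cfsg.Agent.H506.SCArith
import Cfsg.Agent.Lib.PSolvable

/-!
# Theorem N: centralisers, normal subgroups, kernels (helper506)
-/

set_option autoImplicit false
set_option linter.dupNamespace false
set_option linter.unusedSectionVars false

namespace Cfsg.Agent.H506.SC

open Subgroup

section res

variable {C W : Type*} [Group C] [Group W]

/-- Restriction to an invariant subgroup. -/
def rs (φ : C →* MulAut W) (V : Subgroup W) (hV : ∀ c : C, ∀ w ∈ V, φ c w ∈ V) : C →* MulAut V where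
  toFun c :=
    { toFun := fun w => ⟨φ c w, hV c w w.2⟩
      invFun := fun w => ⟨φ c⁻¹ w, hV c⁻¹ w w.2⟩
      left_inv := fun w => Subtype.ext (φ_inv_cancel c _)
      right_inv := fun w => Subtype.ext (φ_cancel_inv c _)
      map_mul' := fun a b => Subtype.ext (map_mul (φ c) _ _) }
  map_one' := by
    ext w
    exact φ_one _
  map_mul' := fun a b => by
    ext w
    exact φ_mul a b _

theorem coe_rs {φ : C →* MulAut W} {V : Subgroup W} {hV : ∀ c : C, ∀ w ∈ V, φ c w ∈ V} (c : C) (w : V) :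
    ((rs φ V hV c w : V) : W) = φ c w := rfl

/-- The centraliser of `A` acts on the fixed points of `A`. -/
def cr (φ : C →* MulAut W) (A : Subgroup C) : ↥(centralizer (A : Set C)) →* MulAut (fx φ A) :=
  rs (φ.comp (centralizer (A : Set C)).subtype) (fx φ A) fun c w hw a ha => by
    change φ a (φ c w) = φ c w
    rw [← φ_mul, mem_centralizer_iff.1 c.2 a ha, φ_mul, hw a ha]

theorem coe_cr {φ : C →* MulAut W} {A : Subgroup C} (c : ↥(centralizer (A : Set C))) (w : fx φ A) :
    ((cr φ A c w : fx φ A) : W) = φ c w := rfl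

end res

section

variable {C W : Type*} [Group C] [Finite C] [Group W] {φ : C →* MulAut W} {q : ℕ} [hq : Fact q.Prime]

/-- The Sylow subgroup fixing a fixed point of `A` centralises `A`. -/
theorem SC.le_centralizer (h : SC q φ) {A : Subgroup C} {w : W} (hw : w ≠ 1) (hA : w ∈ fx φ A) {Q : Sylow q C}
    (hQ : ∀ x ∈ Q, φ x w = w) : (Q : Subgroup C) ≤ centralizer (A : Set C) := by
  intro x hx
  rw [mem_centralizer_iff]
  intro a ha
  exact h.comm hw hQ (hA a ha) hx

theorem SC.centralizer (h : SC q φ) (A : Subgroup C) : SC q (cr φ A) := by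
  intro w hw
  have hw' : (w : W) ≠ 1 := fun h1 => hw (Subtype.ext h1)
  obtain ⟨Q, h1, h2⟩ := h w hw'
  have h3 := h.le_centralizer hw' w.2 h1
  refine ⟨Q.subtype h3, ?_, ?_⟩
  · intro x hx
    have hx' : (x : C) ∈ Q := hx
    exact Subtype.ext (h1 x hx')
  · intro g hg x hx
    have hx' : (x : C) ∈ Q := hx
    have hg' : φ (g : C) (w : W) = w := congrArg Subtype.val hg
    exact Subtype.ext (h2 g hg' x hx')

theorem exists_sylow_subgroupOf (Q : Sylow q C) (N : Subgroup C) [N.Normal] :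
    ∃ R : Sylow q N, (R : Subgroup N) = (Q : Subgroup C).subgroupOf N := by
  obtain ⟨R₀⟩ : Nonempty (Sylow q N) := inferInstance
  obtain ⟨Q₀, hQ₀⟩ := R₀.exists_comap_subtype_eq
  obtain ⟨g, rfl⟩ := MulAction.exists_smul_eq C Q₀ Q
  have hcard : Nat.card (((g • Q₀ : Sylow q C) : Subgroup C).subgroupOf N) = Nat.card (R₀ : Subgroup N) := by
    rw [← hQ₀]
    refine Nat.card_congr
      { toFun := fun x => ⟨⟨g⁻¹ * x * g, ?_⟩, ?_⟩
        invFun := fun x => ⟨⟨g * x * g⁻¹, ?_⟩, ?_⟩
        left_inv := fun x => by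
          apply Subtype.ext; apply Subtype.ext
          change g * (g⁻¹ * (x : N) * g) * g⁻¹ = ((x : N) : C)
          group
        right_inv := fun x => by
          apply Subtype.ext; apply Subtype.ext
          change g⁻¹ * (g * (x : N) * g⁻¹) * g = ((x : N) : C)
          group }
    · have := ‹N.Normal›.conj_mem _ (x : N).2 g⁻¹
      rwa [inv_inv] at this
    · exact mem_smul_sylow.1 (mem_subgroupOf.1 x.2)
    · exact ‹N.Normal›.conj_mem _ (x : N).2 g
    · rw [mem_subgroupOf]
      refine mem_smul_sylow.2 ?_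
      have e : g⁻¹ * (g * ((x : N) : C) * g⁻¹) * g = (x : N) := by group
      change g⁻¹ * (g * ((x : N) : C) * g⁻¹) * g ∈ Q₀
      rw [e]
      exact x.2
  have hp : IsPGroup q (((g • Q₀ : Sylow q C) : Subgroup C).subgroupOf N) :=
    (g • Q₀ : Sylow q C).isPGroup'.comap_subtype
  exact ⟨Sylow.ofCard _ (hcard.trans R₀.card_eq_multiplicity), rfl⟩

theorem SC.normal (h : SC q φ) (N : Subgroup C) [N.Normal] : SC q (φ.comp N.subtype) := by
  intro w hw
  obtain ⟨Q, h1, h2⟩ := h w hw
  obtain ⟨R, hR⟩ := exists_sylow_subgroupOf Q N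
  have hR' : ∀ x : N, x ∈ R → (x : C) ∈ Q := by
    intro x hx
    have hx' : x ∈ (R : Subgroup N) := hx
    rw [hR, mem_subgroupOf] at hx'
    exact hx'
  refine ⟨R, fun x hx => h1 _ (hR' x hx), fun g hg x hx => ?_⟩
  exact Subtype.ext (h2 g hg x (hR' x hx))

/-- The kernel centralises every Sylow `q`-subgroup. -/
theorem SC.ker_comm [Nontrivial W] (h : SC q φ) {b : C} (hb : φ b = 1) (Q : Sylow q C) {x : C} (hx : x ∈ Q) :
    b * x = x * b := by
  obtain ⟨w, hw⟩ := exists_ne (1 : W)
  obtain ⟨Q₀, h1, h2⟩ := h w hw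
  obtain ⟨g, rfl⟩ := MulAction.exists_smul_eq C Q₀ Q
  have h3 := h2 (g⁻¹ * b * g) (by
    rw [map_mul, map_mul, hb, mul_one, ← map_mul, inv_mul_cancel, map_one]; rfl) _ (mem_smul_sylow.1 hx)
  have h4 := congrArg (fun y => g * y * g⁻¹) h3
  calc b * x = g * (g⁻¹ * b * g * (g⁻¹ * x * g)) * g⁻¹ := by group
    _ = g * (g⁻¹ * x * g * (g⁻¹ * b * g)) * g⁻¹ := h4
    _ = x * b := by group

end

end Cfsg.Agent.H506.SC
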