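import Mathlib
import Cfsg.Agent.H506.SCSolv

/-!
# Theorem N: statement (K) for `q`-solvable groups (helper506)
-/

set_option autoImplicit false
set_option linter.dupNamespace false
set_option linter.unusedSectionVars false

namespace Cfsg.Agent.H506.SC

open Subgroup Cfsg

section

variable {C W : Type*} [Group C] [Finite C] [Group W] {φ : C →* MulAut W} {q : ℕ} [hq : Fact q.Prime]

/-- The image of `C` in `Aut W`. -/
theorem SC.range (h : SC q φ) : SC q φ.range.subtype := by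
  intro w hw
  obtain ⟨Q, h1, h2⟩ := h w hw
  refine ⟨Q.mapSurjective φ.rangeRestrict_surjective, ?_, ?_⟩
  · rintro x hx
    have hx' : x ∈ (Q : Subgroup C).map φ.rangeRestrict := hx
    obtain ⟨y, hy, rfl⟩ := hx'
    exact h1 y hy
  · rintro g hg x hx
    have hx' : x ∈ (Q : Subgroup C).map φ.rangeRestrict := hx
    obtain ⟨y, hy, rfl⟩ := hx'
    obtain ⟨c, rfl⟩ := φ.rangeRestrict_surjective g
    rw [← map_mul, h2 c hg y hy, map_mul]

end

section

variable {C W : Type*} [Group C] [Finite C] [CommGroup W] [Finite W] [Nontrivial W] {φ : C →* MulAut W} {q r : ℕ}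
  [hq : Fact q.Prime] [hr : Fact r.Prime]

/-- (K) -/
theorem SC.K (h : SC q φ) (hs : IsPSolvable q C) (hqr : q ≠ r) (hr2 : r ≠ 2) (hW : ∀ w : W, w ^ r = 1) (Q : Sylow q C)
    {f : ℕ} [hf : Fact f.Prime] (hfq : f ≠ q) (hf1 : ¬ q ∣ f - 1) {U : Subgroup C} (hU : IsPGroup f U)
    (hUn : ∀ y ∈ Q, ∀ u ∈ U, y * u * y⁻¹ ∈ U) : ∀ y ∈ Q, ∀ u ∈ U, y * u = u * y := by
  have h' := h.range
  have hs' : IsPSolvable q φ.range :=
    Lib.PSolvable.IsPSolvable_of_surjective q hs φ.rangeRestrict φ.rangeRestrict_surjective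
  have hinj : Function.Injective φ.range.subtype := φ.range.subtype_injective
  let Q' : Sylow q φ.range := Q.mapSurjective φ.rangeRestrict_surjective
  have hQ' : ∀ x : φ.range, x ∈ Q' ↔ x ∈ (Q : Subgroup C).map φ.rangeRestrict := fun x => Iff.rfl
  have hnd : ¬ f ∣ Nat.card (Sylow q φ.range) := fun hd => hf1 (h'.prime_dvd hinj hs' hqr hr2 hW hf.out hd)
  have h1 := QS.cent hs' Q' (h'.ab Q') hfq hnd (U := U.map φ.rangeRestrict) (hU.map _) (by
    rintro y hy _ ⟨u, hu, rfl⟩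
    obtain ⟨z, hz, rfl⟩ := (hQ' y).1 hy
    exact ⟨z * u * z⁻¹, hUn z hz u hu, by rw [map_mul, map_mul, map_inv]⟩)
  intro y hy
  have hfqc : Nat.Coprime f q := (Nat.coprime_primes hf.out hq.out).2 hfq
  have hyo : (orderOf y).Coprime f := by
    obtain ⟨k, hk⟩ := IsPGroup.iff_card.1 Q.isPGroup'
    have h4 : orderOf y ∣ q ^ k := by
      rw [← hk]; exact Subgroup.orderOf_dvd_natCard _ hy
    exact Nat.Coprime.coprime_dvd_left h4 (Nat.Coprime.pow_left k hfqc.symm)
  refine Cop.cent_of_comm hU hyo fun u hu => ?_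
  have h3 : y * u * y⁻¹ * u⁻¹ ∈ U := mul_mem (hUn y hy u hu) (inv_mem hu)
  refine ⟨h3, ?_⟩
  have h4 := h1 (φ.rangeRestrict y) ((hQ' _).2 ⟨y, hy, rfl⟩) (φ.rangeRestrict u) ⟨u, hu, rfl⟩
  have h5 : φ y * φ u = φ u * φ y := congrArg Subtype.val h4
  have h6 : φ (y * u * y⁻¹ * u⁻¹) = 1 := by
    rw [map_mul, map_mul, map_mul, map_inv, map_inv, h5]; group
  exact (h.ker_comm h6 Q hy).symm

end

end Cfsg.Agent.H506.SC
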