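import Mathlib
import Cfsg.Agent.H506.SCK

/-!
# Theorem N: reduction to faithful actions (helper506)
-/

set_option autoImplicit false
set_option linter.dupNamespace false
set_option linter.unusedSectionVars false

namespace Cfsg.Agent.H506.SC

open Subgroup Cfsg

section

variable {C : Type*} [Group C] [Finite C] {q : ℕ} [hq : Fact q.Prime]

/-- `q'`-groups are `q`-solvable. -/
theorem qs_of_not_dvd (h : ¬ q ∣ Nat.card C) : IsPSolvable q C := by
  refine ⟨1, fun i => if i = 0 then ⊥ else ⊤, by simp, by simp, ?_, ?_, ?_⟩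
  · intro i j hij
    by_cases hi : i = 0
    · simp [hi]
    · have hj : j ≠ 0 := fun h0 => hi (by rw [h0] at hij; exact Fin.le_zero_iff.1 hij)
      simp [hi, hj]
  · intro i
    by_cases hi : i = 0
    · simp only [hi, if_true]; infer_instance
    · simp only [hi, if_false]; infer_instance
  · intro i
    right
    have hi : i = 0 := Subsingleton.elim _ _
    subst hi
    have h1 : ((⊥ : Subgroup C).relIndex ⊤) = Nat.card C := by
      rw [relIndex_top_right, index_bot]
    have h2 : (Fin.castSucc (0 : Fin 1)) = 0 := rfl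
    have h3 : (Fin.succ (0 : Fin 1)) ≠ 0 := Fin.succ_ne_zero 0
    simp only [h2, if_true, h3, if_false, h1]
    exact ((Nat.Prime.coprime_iff_not_dvd hq.out).2 h).symm

/-- A normal Sylow `q`-subgroup. -/
theorem qs_of_normal_sylow (Q : Sylow q C) (hQ : (Q : Subgroup C).Normal) : IsPSolvable q C := by
  refine Lib.PSolvable.IsPSolvable_of_quotient q (Q : Subgroup C) (Or.inl (IsPGroup.iff_card.1 Q.isPGroup')) ?_
  apply qs_of_not_dvd
  have h1 : Nat.card (C ⧸ (Q : Subgroup C)) = (Q : Subgroup C).index := rfl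
  rw [h1]
  exact Q.not_dvd_index

/-- Extensions. -/
theorem qs_of_surj {D : Type*} [Group D] (f : C →* D) (hf : Function.Surjective f) (h1 : IsPSolvable q f.ker)
    (h2 : IsPSolvable q D) : IsPSolvable q C := by
  refine Lib.PSolvable.IsPSolvable_of_extension q f.ker h1 ?_
  have e := QuotientGroup.quotientKerEquivOfSurjective f hf
  exact Lib.PSolvable.IsPSolvable_of_surjective q h2 e.symm.toMonoidHom e.symm.surjective

end

section

variable {C W : Type*} [Group C] [Finite C] [Group W] {φ : C →* MulAut W} {q : ℕ} [hq : Fact q.Prime]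

/-- The kernel has a central Sylow `q`-subgroup. -/
theorem SC.qs_ker [Nontrivial W] (h : SC q φ) : IsPSolvable q φ.ker := by
  obtain ⟨Q⟩ : Nonempty (Sylow q φ.ker) := inferInstance
  apply qs_of_normal_sylow Q
  obtain ⟨Q₀, hQ₀⟩ := Q.exists_comap_subtype_eq
  have hmem : ∀ x : φ.ker, x ∈ (Q : Subgroup φ.ker) ↔ (x : C) ∈ (Q₀ : Subgroup C) := by
    intro x
    rw [← hQ₀]; rfl
  constructor
  intro x hx g
  have h1 := h.ker_comm (b := (g : C)) g.2 Q₀ ((hmem x).1 hx)
  have h2 : g * x * g⁻¹ = x := by
    apply Subtype.ext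
    change (g : C) * x * (g : C)⁻¹ = x
    rw [h1, mul_inv_cancel_right]
  rw [h2]; exact hx

/-- **The reduction to faithful actions.** -/
theorem SC.of_range [Nontrivial W] (h : SC q φ) (hr : IsPSolvable q φ.range) : IsPSolvable q C := by
  refine qs_of_surj φ.rangeRestrict φ.rangeRestrict_surjective ?_ hr
  rw [MonoidHom.ker_rangeRestrict]
  exact h.qs_ker

end

end Cfsg.Agent.H506.SC
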