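import Mathlib
import Cfsg.Agent.H506.Perf
import Cfsg.Agent.H506.SCRange

/-!
# Groups with abelian Sylow `q`-subgroups, not `q`-solvable, all proper normal subgroups `q`-solvable (helper506)
-/

set_option autoImplicit false
set_option linter.unusedSectionVars false

namespace Cfsg.Agent.H506.QMin

open Subgroup Cfsg Cfsg.Agent.H506.SC

/-- `G` is not `q`-solvable, but its proper normal subgroups are. -/
structure QM (q : ℕ) (G : Type*) [Group G] : Prop where
  ab : ∀ Q : Sylow q G, ∀ x ∈ Q, ∀ y ∈ Q, x * y = y * x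
  notqs : ¬ IsPSolvable q G
  norm : ∀ N : Subgroup G, N.Normal → N ≠ ⊤ → IsPSolvable q N

variable {G : Type*} [Group G] [Finite G] {q : ℕ} [hq : Fact q.Prime]

/-- Quotients which are `q`-solvable are trivial. -/
theorem QM.eq_top (h : QM q G) (N : Subgroup G) [hN : N.Normal] (hQ : IsPSolvable q (G ⧸ N)) : N = ⊤ := by
  by_contra hne
  exact h.notqs (Lib.PSolvable.IsPSolvable_of_extension q N (h.norm N hN hne) hQ)

theorem QM.perfect (h : QM q G) : commutator G = ⊤ := by
  apply h.eq_top (commutator G)
  have h1 : Group.IsSolvable (G ⧸ commutator G) := by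
    letI : CommGroup (G ⧸ commutator G) := (inferInstance : CommGroup (Abelianization G))
    infer_instance
  exact Lib.PSolvable.IsPSolvable_of_solvable q

/-- A normal subgroup of index prime to `q` is `G`. -/
theorem QM.eq_top_of_index (h : QM q G) (N : Subgroup G) [hN : N.Normal] (hi : ¬ q ∣ N.index) : N = ⊤ :=
  h.eq_top N (qs_of_not_dvd hi)

theorem QM.eq_top_of_sylow_le (h : QM q G) (N : Subgroup G) [hN : N.Normal] (Q : Sylow q G)
    (hQ : (Q : Subgroup G) ≤ N) : N = ⊤ :=
  h.eq_top_of_index N fun hd => Q.not_dvd_index (hd.trans (index_dvd_of_le hQ))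

theorem QM.le_center_of_sylow (h : QM q G) (N : Subgroup G) [hN : N.Normal] (Q : Sylow q G)
    (hQ : ∀ y ∈ Q, ∀ n ∈ N, y * n = n * y) : N ≤ center G := by
  have h1 : centralizer (N : Set G) = ⊤ := by
    apply h.eq_top_of_sylow_le _ Q
    intro y hy
    rw [mem_centralizer_iff]
    intro n hn
    exact (hQ y hy n hn).symm
  intro n hn
  rw [mem_center_iff]
  intro g
  have h2 : g ∈ centralizer (N : Set G) := by rw [h1]; trivial
  exact (mem_centralizer_iff.1 h2 n hn).symm

theorem sylow_ab_map {H : Type*} [Group H] [Finite H] (hab : ∀ Q : Sylow q G, ∀ x ∈ Q, ∀ y ∈ Q, x * y = y * x)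
    (f : G →* H) (hf : Function.Surjective f) (Q : Sylow q H) : ∀ x ∈ Q, ∀ y ∈ Q, x * y = y * x := by
  obtain ⟨Q₀, rfl⟩ := Sylow.mapSurjective_surjective hf q Q
  intro x hx y hy
  have hx' : x ∈ (Q₀ : Subgroup G).map f := hx
  have hy' : y ∈ (Q₀ : Subgroup G).map f := hy
  obtain ⟨a, ha, rfl⟩ := hx'
  obtain ⟨b, hb, rfl⟩ := hy'
  rw [← map_mul, hab Q₀ a ha b hb, map_mul]

/-- The property passes to quotients by proper normal subgroups. -/
theorem QM.quotient (h : QM q G) (N : Subgroup G) [hN : N.Normal] (hne : N ≠ ⊤) : QM q (G ⧸ N) where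
  ab := sylow_ab_map h.ab (QuotientGroup.mk' N) (QuotientGroup.mk'_surjective N)
  notqs := fun hs => hne (h.eq_top N hs)
  norm := by
    intro M hM hMt
    have h1 : (M.comap (QuotientGroup.mk' N)) ≠ ⊤ := by
      intro ht
      apply hMt
      rw [eq_top_iff]
      intro x _
      obtain ⟨g, rfl⟩ := QuotientGroup.mk'_surjective N x
      have h2 : g ∈ M.comap (QuotientGroup.mk' N) := by rw [ht]; trivial
      exact h2
    have h2 := h.norm _ (hM.comap _) h1
    let f : M.comap (QuotientGroup.mk' N) →* M :=
      ((QuotientGroup.mk' N).comp (M.comap (QuotientGroup.mk' N)).subtype).codRestrict M fun x => x.2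
    refine Lib.PSolvable.IsPSolvable_of_surjective q h2 f ?_
    rintro ⟨m, hm⟩
    obtain ⟨g, rfl⟩ := QuotientGroup.mk'_surjective N m
    exact ⟨⟨g, hm⟩, rfl⟩

/-- If `O_{q'}(G) = 1` then proper normal subgroups are trivial. -/
theorem QM.eq_bot (h : QM q G) (hO : pPrimeCore q G = ⊥) (N : Subgroup G) [hN : N.Normal] (hne : N ≠ ⊤) : N = ⊥ := by
  have hqs := h.norm N hN hne
  have h1 : pPrimeCore q N = ⊥ := by
    have h2 := Lib.Cores.map_subtype_pPrimeCore q hN
    rw [hO, inf_bot_eq, Subgroup.map_eq_bot_iff, ker_subtype, le_bot_iff] at h2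
    exact h2
  have h2 := Lib.PSolvable.centralizer_pCore_le_of_pSolvable q hqs h1
  -- `A = O_q(N)`
  have h3 := Lib.Cores.map_subtype_pCore q hN
  set A : Subgroup G := N ⊓ pCore q G with hA
  haveI hcn : (pCore q G).Normal := Lib.Cores.pCore_normal q
  haveI hAn : A.Normal := Subgroup.normal_inf_normal _ _
  obtain ⟨Q⟩ : Nonempty (Sylow q G) := inferInstance
  have hAQ : A ≤ (Q : Subgroup G) := inf_le_right.trans (Lib.Cores.pCore_le_sylow Q)
  have hAc : A ≤ center G := h.le_center_of_sylow A Q fun y hy n hn => h.ab Q y hy n (hAQ hn)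
  have hA1 : A = ⊥ := by
    rw [eq_bot_iff]
    intro z hz
    rw [mem_bot]
    exact Perf.eq_one_of_central Q (h.ab Q) (hAQ hz) (hAc hz) (by rw [h.perfect]; trivial)
  rw [hA1, Subgroup.map_eq_bot_iff, ker_subtype, le_bot_iff] at h3
  rw [h3] at h2
  rw [eq_bot_iff]
  intro x hx
  have h4 : (⟨x, hx⟩ : N) ∈ centralizer (((⊥ : Subgroup N) : Set N)) := by
    rw [mem_centralizer_iff]
    intro y hy
    rw [SetLike.mem_coe, mem_bot] at hy
    rw [hy, one_mul, mul_one]
  have h5 := mem_bot.1 (h2 h4)
  exact mem_bot.2 (congrArg Subtype.val h5)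

theorem QM.core_ne_top (h : QM q G) : pPrimeCore q G ≠ ⊤ := by
  intro ht
  apply h.notqs
  apply qs_of_not_dvd
  exact (Nat.Prime.coprime_iff_not_dvd hq.out).1 ((Lib.Cores.pPrimeCore_eq_top_iff q).1 ht).symm

theorem QM.le_core (h : QM q G) (N : Subgroup G) [hN : N.Normal] (hne : N ≠ ⊤) : N ≤ pPrimeCore q G := by
  haveI hO : (pPrimeCore q G).Normal := Lib.Cores.pPrimeCore_normal q
  have h' := h.quotient (pPrimeCore q G) h.core_ne_top
  have hs := QuotientGroup.mk'_surjective (pPrimeCore q G)
  have hMn : (N.map (QuotientGroup.mk' (pPrimeCore q G))).Normal := hN.map _ hs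
  by_cases ht : N.map (QuotientGroup.mk' (pPrimeCore q G)) = ⊤
  · exfalso
    apply h.notqs
    have h1 : IsPSolvable q (G ⧸ pPrimeCore q G) := by
      have h2 := h.norm N hN hne
      let f : N →* (G ⧸ pPrimeCore q G) := (QuotientGroup.mk' (pPrimeCore q G)).comp N.subtype
      refine Lib.PSolvable.IsPSolvable_of_surjective q h2 f ?_
      intro x
      have hx : x ∈ N.map (QuotientGroup.mk' (pPrimeCore q G)) := by rw [ht]; trivial
      obtain ⟨n, hn, hnx⟩ := hx
      exact ⟨⟨n, hn⟩, hnx⟩
    exact absurd (h.eq_top _ h1) h.core_ne_top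
  · have h1 := h'.eq_bot (Lib.Cores.pPrimeCore_quotient_pPrimeCore q) _ ht
    rw [Subgroup.map_eq_bot_iff, QuotientGroup.ker_mk'] at h1
    exact h1

theorem QM.coprime (h : QM q G) (N : Subgroup G) [hN : N.Normal] (hne : N ≠ ⊤) : ¬ q ∣ Nat.card N := by
  have h1 := (Lib.Cores.le_pPrimeCore_iff (p := q) hN).1 (h.le_core N hne)
  exact (Nat.Prime.coprime_iff_not_dvd hq.out).1 h1.symm

theorem QM.dvd (h : QM q G) : q ∣ Nat.card G := by
  by_contra hn
  exact h.notqs (qs_of_not_dvd hn)

/-- A normal subgroup centralised by an element outside `O_{q'}(G)` is central. -/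
theorem QM.le_center (h : QM q G) (N : Subgroup G) [hN : N.Normal] {y : G} (hy : y ∉ pPrimeCore q G)
    (hc : ∀ n ∈ N, y * n = n * y) : N ≤ center G := by
  have h1 : centralizer (N : Set G) = ⊤ := by
    by_contra hne
    apply hy
    apply h.le_core (centralizer (N : Set G)) hne
    rw [mem_centralizer_iff]
    intro n hn
    exact (hc n hn).symm
  intro n hn
  rw [mem_center_iff]
  intro g
  have h2 : g ∈ centralizer (N : Set G) := by rw [h1]; trivial
  exact (mem_centralizer_iff.1 h2 n hn).symm

/-- If all normal `f`-subgroups of `G` are central, all solvable normal subgroups are central. -/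
theorem QM.solvable_le (h : QM q G)
    (hf : ∀ f : ℕ, f.Prime → ∀ M : Subgroup G, M.Normal → IsPGroup f M → M ≤ center G) (S : Subgroup G)
    (hS : S.Normal) (hs : Group.IsSolvable S) : S ≤ center G := by
  have key : ∀ n : ℕ, ∀ S : Subgroup G, S.Normal → Group.IsSolvable S → Nat.card S ≤ n → S ≤ center G := by
    intro n
    induction n with
    | zero =>
      intro S _ _ h0
      have := Nat.card_pos (α := S)
      omega
    | succ n ih =>
      intro S hS hs hn
      by_cases hb : S = ⊥
      · rw [hb]; exact bot_le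
      -- the derived subgroup
      have hd : ⁅S, S⁆ < S := by
        refine lt_of_le_of_ne (commutator_le_left S S) fun he => hb ?_
        have : commutator S = ⊤ := by
          have h1 : (commutator S).map S.subtype = ⁅S, S⁆ := by
            rw [commutator_def, map_commutator, ← MonoidHom.range_eq_map, range_subtype]
          rw [he] at h1
          apply Subgroup.map_injective S.subtype_injective
          rw [h1, ← MonoidHom.range_eq_map, range_subtype]
        have h2 : ∀ x : S, x = 1 := fun x => Perf.hom_trivial this (MonoidHom.id S) x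
        rw [eq_bot_iff]
        intro x hx
        exact mem_bot.2 (congrArg Subtype.val (h2 ⟨x, hx⟩))
      have hdn : (⁅S, S⁆ : Subgroup G).Normal := commutator_normal S S
      have hds : Group.IsSolvable (⁅S, S⁆ : Subgroup G) :=
        solvable_of_solvable_injective (f := inclusion hd.le) (inclusion_injective hd.le)
      have hdc : Nat.card (⁅S, S⁆ : Subgroup G) ≤ n := by
        have := Set.ncard_lt_ncard (s := ((⁅S, S⁆ : Subgroup G) : Set G)) (t := (S : Set G))
          (SetLike.coe_ssubset_coe.2 hd) (Set.toFinite _)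
        have h1 : Nat.card (⁅S, S⁆ : Subgroup G) < Nat.card S := this
        omega
      have h1 := ih _ hdn hds hdc
      have hnil : Group.IsNilpotent S := by
        have h2 : (QuotientGroup.mk' (commutator S)).ker ≤ center S := by
          rw [QuotientGroup.ker_mk']
          intro x hx
          rw [mem_center_iff]
          intro g
          apply Subtype.ext
          have h3 : (x : G) ∈ center G := by
            apply h1
            have h4 : (commutator S).map S.subtype = ⁅S, S⁆ := by
              rw [commutator_def, map_commutator, ← MonoidHom.range_eq_map, range_subtype]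
            rw [← h4]
            exact ⟨x, hx, rfl⟩
          exact (mem_center_iff.1 h3 g)
        letI : CommGroup (S ⧸ commutator S) := (inferInstance : CommGroup (Abelianization S))
        exact Subgroup.isNilpotent_of_ker_le_center _ h2
      refine (Lib.Cores.le_iSup_pCore_of_isNilpotent hS hnil).trans (iSup_le fun p => ?_)
      exact hf p p.2 _ (Lib.Cores.pCore_normal (G := G) p) (Lib.Cores.pCore_isPGroup (G := G) p)
  exact key _ S hS hs le_rfl

end Cfsg.Agent.H506.QMin
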