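import Mathlib
import Cfsg.Agent.PermutationGroups.AutQuaternion
import Cfsg.Agent.S0144

/-!
# Automorphisms of generalised quaternion groups (helper506)
-/

set_option autoImplicit false
set_option linter.unusedSectionVars false

namespace Cfsg.Agent.H506.QuatAut

open Subgroup QuaternionGroup

/-- metabelian criterion -/
theorem solvable_of_sub {A : Type*} [Group A] (K : Subgroup A) (h1 : ∀ a b : A, a * b * a⁻¹ * b⁻¹ ∈ K)
    (h2 : ∀ a ∈ K, ∀ b ∈ K, a * b = b * a) : Group.IsSolvable A := by
  have hc : commutator A ≤ K := by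
    rw [commutator_def, commutator_le]
    intro a _ b _
    exact h1 a b
  have hs : Group.IsSolvable (commutator A) := Group.isSolvable_of_comm fun a b =>
    Subtype.ext (h2 a (hc a.2) b (hc b.2))
  letI : CommGroup (A ⧸ commutator A) := (inferInstance : CommGroup (Abelianization A))
  exact Group.isSolvable_of_ker_le_range (commutator A).subtype (QuotientGroup.mk' (commutator A)) (by
    rw [QuotientGroup.ker_mk', range_subtype])

section big

variable {m : ℕ} [NeZero m]

theorem a_pow (k : ℕ) : (a 1 : QuaternionGroup m) ^ k = a k := by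
  rw [a_one_pow]

/-- automorphisms map `⟨a⟩` into itself -/
theorem map_a (hm : 2 < m) (α : MulAut (QuaternionGroup m)) : ∃ i : ZMod (2 * m), α (a 1) = a i := by
  rcases h : α (a 1) with i | i
  · exact ⟨i, rfl⟩
  · exfalso
    have h1 : orderOf (α (a 1)) = orderOf (a 1 : QuaternionGroup m) := orderOf_injective α.toMonoidHom α.injective _
    rw [h, orderOf_a_one] at h1
    have h2 : orderOf (xa i : QuaternionGroup m) = 4 := orderOf_xa i
    omega

theorem map_a_gen {α : MulAut (QuaternionGroup m)} {i : ZMod (2 * m)} (h : α (a 1) = a i) (j : ZMod (2 * m)) :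
    α (a j) = a (i * j) := by
  haveI : NeZero (2 * m) := ⟨by have := NeZero.ne m; omega⟩
  have h1 : (a j : QuaternionGroup m) = (a 1) ^ j.val := by rw [a_pow, ZMod.natCast_zmod_val]
  rw [h1, map_pow, h]
  have h2 : ∀ k : ℕ, (a i : QuaternionGroup m) ^ k = a (i * (k : ZMod (2 * m))) := by
    intro k
    induction k with
    | zero => simp
    | succ k ih => rw [pow_succ, ih, a_mul_a]; congr 1; push_cast; ring
  rw [h2, ZMod.natCast_zmod_val]

theorem comm_fix (hm : 2 < m) (α β : MulAut (QuaternionGroup m)) (j : ZMod (2 * m)) :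
    α (β (a j)) = β (α (a j)) := by
  obtain ⟨i, hi⟩ := map_a hm α
  obtain ⟨k, hk⟩ := map_a hm β
  rw [map_a_gen hk, map_a_gen hi, map_a_gen hi, map_a_gen hk]
  congr 1
  ring

/-- the automorphisms fixing `a` -/
def K (m : ℕ) : Subgroup (MulAut (QuaternionGroup m)) where
  carrier := {α | ∀ j, α (a j) = a j}
  one_mem' := fun _ => rfl
  mul_mem' := fun {α β} hα hβ j => by rw [MulAut.mul_apply, hβ, hα]
  inv_mem' := fun {α} hα j => by
    change α⁻¹ (a j) = a j
    rw [MulAut.inv_apply, MulEquiv.symm_apply_eq, hα]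

theorem map_xa {α : MulAut (QuaternionGroup m)} (hα : α ∈ K m) : ∃ j : ZMod (2 * m), ∀ i, α (xa i) = xa (i + j) := by
  rcases h : α (xa 0) with j | j
  · exfalso
    have h1 : α (a j) = a j := hα j
    rw [← h] at h1
    have h2 := α.injective h1
    rw [h] at h2
    cases h2
  · refine ⟨j, fun i => ?_⟩
    have h1 : (xa i : QuaternionGroup m) = xa 0 * a i := by rw [xa_mul_a, zero_add]
    rw [h1, map_mul, h, hα i, xa_mul_a, add_comm]

theorem solvable_big (hm : 2 < m) : Group.IsSolvable (MulAut (QuaternionGroup m)) := by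
  refine solvable_of_sub (K m) ?_ ?_
  · intro α β j
    rw [MulAut.mul_apply, MulAut.mul_apply, MulAut.mul_apply, comm_fix hm α⁻¹ β⁻¹, MulAut.apply_inv_self,
      MulAut.apply_inv_self]
  · intro α hα β hβ
    obtain ⟨i, hi⟩ := map_xa hα
    obtain ⟨j, hj⟩ := map_xa hβ
    ext x
    rcases x with k | k
    · rw [MulAut.mul_apply, MulAut.mul_apply, hβ k, hα k, hβ k]
    · rw [MulAut.mul_apply, MulAut.mul_apply, hj, hi, hi, hj]
      congr 1
      ring

end big

/-- an automorphism of order prime to `2` -/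
theorem trivial_big {n : ℕ} (hn : 2 ≤ n) (α : MulAut (QuaternionGroup (2 ^ n))) (hα : (orderOf α).Coprime 2) : α = 1 := by
  have hm : 2 < 2 ^ n := by
    calc 2 < 2 ^ 2 := by norm_num
      _ ≤ 2 ^ n := Nat.pow_le_pow_right (by norm_num) hn
  haveI : NeZero (2 ^ n) := ⟨by positivity⟩
  obtain ⟨i, hi⟩ := map_a hm α
  have hcop : (orderOf α).Coprime (2 ^ (n + 1)) := Nat.Coprime.pow_right _ hα
  -- `α ^ k (a 1) = a (i ^ k)`
  have h1 : ∀ k : ℕ, (α ^ k) (a 1) = a (i ^ k) := by
    intro k
    induction k with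
    | zero => simp
    | succ k ih => rw [pow_succ', MulAut.mul_apply, ih, map_a_gen hi, pow_succ']
  have h2 : i ^ orderOf α = 1 := by
    have := h1 (orderOf α)
    rw [pow_orderOf_eq_one, MulAut.one_apply] at this
    exact (QuaternionGroup.a.inj this).symm
  have hi1 : i = 1 := by
    have hpos : 0 < orderOf α := orderOf_pos α
    have hu : IsUnit i := IsUnit.of_pow_eq_one h2 hpos.ne'
    obtain ⟨u, rfl⟩ := hu
    have h3 : u ^ orderOf α = 1 := Units.ext (by rw [Units.val_pow_eq_pow_val, h2, Units.val_one])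
    have h4 : orderOf u ∣ Nat.card (ZMod (2 * 2 ^ n))ˣ := orderOf_dvd_natCard u
    haveI : NeZero (2 * 2 ^ n) := ⟨by positivity⟩
    have h4' : Nat.card (ZMod (2 * 2 ^ n))ˣ = 2 ^ n * (2 - 1) := by
      rw [Nat.card_eq_fintype_card, ZMod.card_units_eq_totient, ← pow_succ', Nat.totient_prime_pow_succ Nat.prime_two]
    rw [h4'] at h4
    have h5 : orderOf u ∣ Nat.gcd (orderOf α) (2 ^ n * (2 - 1)) := Nat.dvd_gcd (orderOf_dvd_of_pow_eq_one h3) h4
    have h6 : (orderOf α).Coprime (2 ^ n * (2 - 1)) :=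
      Nat.Coprime.mul_right (Nat.Coprime.pow_right _ hα) (Nat.coprime_one_right _)
    rw [h6, Nat.dvd_one, orderOf_eq_one_iff] at h5
    rw [h5, Units.val_one]
  subst hi1
  have hK : α ∈ K (2 ^ n) := fun j => by rw [map_a_gen hi, one_mul]
  obtain ⟨j, hj⟩ := map_xa hK
  have h3 : ∀ (k : ℕ) (x : ZMod (2 * 2 ^ n)), (α ^ k) (xa x) = xa (x + (k : ZMod (2 * 2 ^ n)) * j) := by
    intro k
    induction k with
    | zero => intro x; simp
    | succ k ih =>
      intro x
      rw [pow_succ, MulAut.mul_apply, hj, ih]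
      congr 1
      push_cast
      ring
  have h4 : ((orderOf α : ℕ) : ZMod (2 * 2 ^ n)) * j = 0 := by
    have := h3 (orderOf α) 0
    rw [pow_orderOf_eq_one, MulAut.one_apply, zero_add] at this
    exact (QuaternionGroup.xa.inj this).symm
  have h5 : IsUnit ((orderOf α : ℕ) : ZMod (2 * 2 ^ n)) := by
    rw [ZMod.isUnit_iff_coprime, ← pow_succ']
    exact hcop
  have h6 : j = 0 := (h5.mul_right_eq_zero).1 h4
  ext x
  rcases x with k | k
  · rw [hK k]; rfl
  · rw [hj, h6, add_zero]; rfl

theorem card_one : Nat.card (MulAut (QuaternionGroup 1)) = 2 := by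
  have h1 : IsCyclic (QuaternionGroup 1) := quaternionGroup_one_isCyclic
  have h2 := Nat.card_congr (IsCyclic.mulAutMulEquiv (QuaternionGroup 1)).toEquiv
  have h3 : Nat.card (QuaternionGroup 1) = 4 := by rw [Nat.card_eq_fintype_card, QuaternionGroup.card]
  rw [h2, h3, Nat.card_eq_fintype_card, ZMod.card_units_eq_totient]
  decide

theorem aut_solv (n : ℕ) : Group.IsSolvable (MulAut (QuaternionGroup (2 ^ n))) := by
  rcases Nat.lt_or_ge n 2 with h | h
  · have h1 : n = 0 ∨ n = 1 := by omega
    rcases h1 with rfl | rfl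
    · have h1 : IsCyclic (QuaternionGroup (2 ^ 0)) := quaternionGroup_one_isCyclic
      have hs : Group.IsSolvable (ZMod (Nat.card (QuaternionGroup (2 ^ 0))))ˣ := inferInstance
      exact Group.isSolvable_of_isSolvable_injective (f := (IsCyclic.mulAutMulEquiv (QuaternionGroup (2 ^ 0))).toMonoidHom)
        (IsCyclic.mulAutMulEquiv (QuaternionGroup (2 ^ 0))).injective
    · have h1 := PermutationGroups.AutQuaternion.card_mulAut
      have h2 : Nat.card (MulAut (QuaternionGroup (2 ^ 1))) = 2 ^ 3 * 3 ^ 1 := h1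
      haveI : Finite (MulAut (QuaternionGroup (2 ^ 1))) := Nat.finite_of_card_ne_zero (by rw [h2]; norm_num)
      exact S0144.result 2 3 3 1 Nat.prime_two Nat.prime_three h2
  · have hm : 2 < 2 ^ n := by
      calc 2 < 2 ^ 2 := by norm_num
        _ ≤ 2 ^ n := Nat.pow_le_pow_right (by norm_num) h
    haveI : NeZero (2 ^ n) := ⟨by positivity⟩
    exact solvable_big hm

theorem aut_odd (n : ℕ) (α : MulAut (QuaternionGroup (2 ^ n))) (hα : (orderOf α).Coprime 6) : α = 1 := by
  have hα2 : (orderOf α).Coprime 2 := Nat.Coprime.coprime_dvd_right (by norm_num) hα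
  have hα3 : (orderOf α).Coprime 3 := Nat.Coprime.coprime_dvd_right (by norm_num) hα
  rcases Nat.lt_or_ge n 2 with h | h
  · have h1 : n = 0 ∨ n = 1 := by omega
    rcases h1 with rfl | rfl
    · have h1 : orderOf α ∣ 2 := by
        have h2 := orderOf_dvd_natCard α
        have h3 : Nat.card (MulAut (QuaternionGroup (2 ^ 0))) = 2 := card_one
        rwa [h3] at h2
      have h2 : orderOf α = 1 := by
        have := Nat.dvd_gcd (dvd_refl (orderOf α)) h1
        rwa [hα2, Nat.dvd_one] at this
      exact orderOf_eq_one_iff.1 h2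
    · have h1 : orderOf α ∣ 24 := by
        have h2 := orderOf_dvd_natCard α
        have h3 : Nat.card (MulAut (QuaternionGroup (2 ^ 1))) = 24 := PermutationGroups.AutQuaternion.card_mulAut
        rwa [h3] at h2
      have h2 : (orderOf α).Coprime 24 := by
        have h3 : (24 : ℕ) = 2 ^ 3 * 3 := by norm_num
        rw [h3]
        exact Nat.Coprime.mul_right (Nat.Coprime.pow_right _ hα2) hα3
      have h3 : orderOf α = 1 := by
        have := Nat.dvd_gcd (dvd_refl (orderOf α)) h1
        rwa [h2, Nat.dvd_one] at this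
      exact orderOf_eq_one_iff.1 h3
  · exact trivial_big h α hα2

end Cfsg.Agent.H506.QuatAut
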