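import Mathlib
import Cfsg.Agent.H506.QMin
import Cfsg.Agent.H225.AxB

/-!
# Theorem N: minimal counterexample (helper506)
-/

set_option autoImplicit false
set_option linter.dupNamespace false
set_option linter.unusedSectionVars false
set_option linter.style.haveILetI false

namespace Cfsg.Agent.H506.SC

open Subgroup Cfsg Cfsg.Agent.H506.QMin

/-- A minimal counterexample to Theorem N. -/
structure Min (q r : ℕ) {C W : Type*} [Group C] [Group W] (φ : C →* MulAut W) : Prop where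
  sc : SC q φ
  inj : Function.Injective φ
  exp : ∀ w : W, w ^ r = 1
  q2 : q ≠ 2
  r2 : r ≠ 2
  qr : q ≠ r
  notqs : ¬ IsPSolvable q C
  norm : ∀ N : Subgroup C, N.Normal → N ≠ ⊤ → IsPSolvable q N
  cent : ∀ A : Subgroup C, Subgroup.centralizer (A : Set C) ≠ ⊤ → fx φ A ≠ ⊥ →
    IsPSolvable q (Subgroup.centralizer (A : Set C))

variable {C W : Type*} [Group C] [Finite C] [CommGroup W] [Finite W] [Nontrivial W] {φ : C →* MulAut W} {q r : ℕ}
  [hq : Fact q.Prime] [hr : Fact r.Prime]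

theorem Min.qm (h : Min q r φ) : QM q C := ⟨h.sc.ab, h.notqs, h.norm⟩

/-- Primitive prime divisor. -/
theorem Min.ppd (h : Min q r φ) : ∃ d l : ℕ, 3 ≤ d ∧ l.Prime ∧ l ≠ r ∧ (∀ x : C, orderOf x = l → Pp r d l (φ x)) ∧
    ∃ g : C, orderOf g = l := by
  obtain ⟨Q⟩ : Nonempty (Sylow q C) := inferInstance
  obtain ⟨m, k, hm0, hm, hcard, hcard2, hk⟩ := h.sc.num h.qr h.exp Q
  rcases hk with ⟨-, hk, -⟩ | ⟨hk, hn1, htop⟩
  · exfalso
    apply h.notqs
    apply qs_of_normal_sylow Q
    have : Subsingleton (Sylow q C) := (Nat.card_eq_one_iff_unique.1 hk).1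
    exact Sylow.normal_of_subsingleton Q
  obtain ⟨l, hl, hl1, hl2, hl3⟩ := exists_ppd hr.out h.r2 hm0 hk (hcard ▸ hcard2)
  haveI : Fact l.Prime := ⟨hl⟩
  have hlC : l ∣ Nat.card C := hl3.trans (Sylow.card_dvd_index Q |>.trans (index_dvd_card _))
  obtain ⟨g, hg⟩ := exists_prime_orderOf_dvd_card' l hlC
  have hlr : l ≠ r := by
    rintro rfl
    have h1 : l ∣ l ^ (m * k) := dvd_pow_self l (by have := Nat.mul_pos hm0 (by omega : 0 < k); omega)
    have h2 := (Nat.dvd_sub h1 hl1)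
    have h3 : 0 < l ^ (m * k) := pow_pos hl.pos _
    rw [Nat.sub_sub_self (by omega)] at h2
    exact hl.one_lt.ne' (Nat.dvd_one.1 h2)
  exact ⟨m * k, l, by nlinarith, hl, hlr, fun x hx => pp_of h.inj h.exp hcard (Nat.mul_pos hm0 (by omega)) hl hl1 hl2 hx,
    g, hg⟩

theorem Min.irr (h : Min q r φ) {U : Subgroup W} (hU : ∀ c, ∀ u ∈ U, φ c u ∈ U) : U = ⊥ ∨ U = ⊤ := by
  obtain ⟨d, l, -, -, -, hpp, g, hg⟩ := h.ppd
  exact (hpp g hg).irr (hU g)

theorem Min.fx_normal (h : Min q r φ) {N : Subgroup C} (hN : N.Normal) {w : W} (hw : w ≠ 1) (hwN : w ∈ fx φ N) :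
    N = ⊥ := by
  have h1 : fx φ N = ⊤ := by
    rcases h.irr (U := fx φ N) (fun c u hu n hn => by
      have h2 := hu (c⁻¹ * n * c) (by
        have := hN.conj_mem n hn c⁻¹
        rwa [inv_inv] at this)
      rw [φ_mul, φ_mul] at h2
      have := congrArg (φ c) h2
      rwa [φ_cancel_inv] at this) with h2 | h2
    · rw [h2] at hwN
      exact absurd (mem_bot.1 hwN) hw
    · exact h2
  rw [eq_bot_iff]
  intro n hn
  rw [mem_bot]
  apply h.inj
  rw [map_one]
  ext w
  have h3 : w ∈ fx φ N := by rw [h1]; trivial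
  exact h3 n hn

/-- Central elements act without fixed points. -/
theorem Min.central (h : Min q r φ) {z : C} (hz : z ∈ center C) {w : W} (hw : w ≠ 1) (hzw : φ z w = w) : z = 1 := by
  have h1 : (zpowers z).Normal := by
    constructor
    intro x hx g
    have h2 : zpowers z ≤ center C := by rw [zpowers_le]; exact hz
    have h3 := mem_center_iff.1 (h2 hx) g
    rw [h3, mul_inv_cancel_right]; exact hx
  have h2 := h.fx_normal h1 hw (mem_fx_zpowers.2 hzw)
  exact zpowers_eq_bot.1 h2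

/-- `r`-groups have fixed points. -/
theorem exists_fixed {N : Subgroup C} (hW : ∀ w : W, w ^ r = 1) (hN : IsPGroup r N) : ∃ w : W, w ≠ 1 ∧ w ∈ fx φ N := by
  letI : MulAction N W := MulAction.compHom W (φ.comp N.subtype)
  have hsmul : ∀ (n : N) (w : W), n • w = φ n w := fun _ _ => rfl
  have h1 : r ∣ Nat.card W := by
    obtain ⟨k, hk⟩ := IsPGroup.iff_card.1 (isPGroup_of_exp (r := r) hW)
    rcases Nat.eq_zero_or_pos k with rfl | h0
    · rw [pow_zero] at hk
      have := Finite.one_lt_card (α := W)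
      omega
    · rw [hk]; exact dvd_pow_self r h0.ne'
  have h2 : (1 : W) ∈ MulAction.fixedPoints N W := by
    intro n
    rw [hsmul, map_one]
  obtain ⟨b, hb, hne⟩ := hN.exists_fixed_point_of_prime_dvd_card_of_fixed_point W h1 h2
  exact ⟨b, fun h => hne h.symm, fun n hn => hb ⟨n, hn⟩⟩

/-- **Normal `f`-subgroups, `f` odd, are central.** -/
theorem Min.odd_central (h : Min q r φ) {f : ℕ} (hf : f.Prime) (hf2 : f ≠ 2) (N : Subgroup C) (hN : N.Normal)
    (hNf : IsPGroup f N) : N ≤ center C := by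
  haveI : Fact f.Prime := ⟨hf⟩
  by_cases hNb : N = ⊥
  · rw [hNb]; exact bot_le
  obtain ⟨d, l, hd, hl, hlr, hpp, g, hg⟩ := h.ppd
  by_cases hfr : f = r
  · subst hfr
    obtain ⟨w, hw, hwN⟩ := exists_fixed (φ := φ) h.exp hNf
    rw [h.fx_normal hN hw hwN]
    exact bot_le
  have key : ∀ γ : C, orderOf γ = l → (∀ n ∈ N, γ * n = n * γ) → N ≤ center C := by
    intro γ hγ hc
    have hcyc : IsCyclic N := by
      refine (hpp γ hγ).cyc (φ.comp N.subtype) (h.inj.comp N.subtype_injective) fun y => ?_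
      change φ y * φ γ = φ γ * φ y
      rw [← map_mul, ← map_mul, hc y y.2]
    exact Perf.le_center_of_cyclic h.qm.perfect N hcyc
  by_cases hfl : f = l
  · subst hfl
    haveI : Nontrivial N := (nontrivial_iff_ne_bot N).2 hNb
    have hZ := hNf.center_nontrivial
    have hZp : IsPGroup f (center N) := hNf.to_subgroup _
    obtain ⟨z, hz⟩ : ∃ z : center N, orderOf z = f := by
      apply exists_prime_orderOf_dvd_card' f
      obtain ⟨n, hn⟩ := IsPGroup.iff_card.1 hZp
      rcases Nat.eq_zero_or_pos n with rfl | hn0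
      · rw [pow_zero] at hn
        have := Finite.one_lt_card (α := center N)
        omega
      · rw [hn]; exact dvd_pow_self f hn0.ne'
    apply key ((z : N) : C) (by rw [Subgroup.orderOf_coe, Subgroup.orderOf_coe, hz])
    intro n hn
    have := mem_center_iff.1 z.2 ⟨n, hn⟩
    exact (congrArg Subtype.val this).symm
  · apply key g hg
    intro n hn
    have h1 := (hpp g hg).cent hf hf2 hfr hfl (N.map φ) (hNf.map _) (by
      rintro _ ⟨m, hm, rfl⟩
      exact ⟨g * m * g⁻¹, hN.conj_mem m hm g, by rw [map_mul, map_mul, map_inv]⟩) (φ n) ⟨n, hn, rfl⟩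
    rw [← map_mul, ← map_mul] at h1
    exact h.inj h1

/-- The centraliser of a noncentral element with fixed points. -/
theorem Min.qs_centralizer (h : Min q r φ) {x : C} (hx : x ≠ 1) {w : W} (hw : w ≠ 1) (hxw : φ x w = w) :
    IsPSolvable q (Subgroup.centralizer ((zpowers x : Subgroup C) : Set C)) := by
  apply h.cent
  · intro ht
    apply hx
    apply h.central _ hw hxw
    rw [mem_center_iff]
    intro g
    have h1 : g ∈ Subgroup.centralizer ((zpowers x : Subgroup C) : Set C) := by rw [ht]; trivial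
    exact (mem_centralizer_iff.1 h1 x (mem_zpowers x)).symm
  · intro hb
    apply hw
    have h1 : w ∈ fx φ (zpowers x) := mem_fx_zpowers.2 hxw
    rw [hb] at h1
    exact mem_bot.1 h1

/-- (K) in the centraliser of `x`. -/
theorem Min.k (h : Min q r φ) {x : C} (hx : x ≠ 1) {w : W} (hw : w ≠ 1) (hxw : φ x w = w) {Q : Sylow q C}
    (hQ : ∀ y ∈ Q, φ y w = w) {f : ℕ} [hf : Fact f.Prime] (hfq : f ≠ q) (hf1 : ¬ q ∣ f - 1) {U : Subgroup C}
    (hU : IsPGroup f U) (hUx : ∀ u ∈ U, u * x = x * u) (hUn : ∀ y ∈ Q, ∀ u ∈ U, y * u * y⁻¹ ∈ U) :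
    ∀ y ∈ Q, ∀ u ∈ U, y * u = u * y := by
  have hqs := h.qs_centralizer hx hw hxw
  have hwx : w ∈ fx φ (zpowers x) := mem_fx_zpowers.2 hxw
  have hQc := h.sc.le_centralizer hw hwx hQ
  have hsc := h.sc.centralizer (zpowers x)
  haveI : Nontrivial (fx φ (zpowers x)) := ⟨⟨w, hwx⟩, 1, fun h1 => hw (congrArg Subtype.val h1)⟩
  have hUc : U ≤ Subgroup.centralizer ((zpowers x : Subgroup C) : Set C) := by
    intro u hu
    rw [mem_centralizer_iff]
    rintro _ ⟨k, rfl⟩
    exact ((show Commute u x from hUx u hu).zpow_right k).eq.symm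
  have h1 := hsc.K hqs h.qr h.r2 (fun v => Subtype.ext (h.exp v)) (Q.subtype hQc) hfq hf1
    (U := U.subgroupOf _) (hU.comap_of_injective _ (Subgroup.subtype_injective _)) (by
      rintro y hy u hu
      exact hUn y hy u hu)
  intro y hy u hu
  exact congrArg Subtype.val (h1 ⟨y, hQc hy⟩ hy ⟨u, hUc hu⟩ hu)

/-- (K+) -/
theorem Min.kplus (h : Min q r φ) {x : C} (hx : x ≠ 1) {w : W} (hw : w ≠ 1) (hxw : φ x w = w) {Q : Sylow q C}
    (hQ : ∀ y ∈ Q, φ y w = w) {f : ℕ} [hf : Fact f.Prime] (hfq : f ≠ q) (hf1 : ¬ q ∣ f - 1) {U : Subgroup C}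
    (hU : IsPGroup f U) (hxU : x ∈ U) (hUn : ∀ y ∈ Q, ∀ u ∈ U, y * u * y⁻¹ ∈ U) :
    ∀ y ∈ Q, ∀ u ∈ U, y * u = u * y := by
  have hwx : w ∈ fx φ (zpowers x) := mem_fx_zpowers.2 hxw
  have hQc := h.sc.le_centralizer hw hwx hQ
  have hQx : ∀ y ∈ Q, y * x = x * y := fun y hy => (mem_centralizer_iff.1 (hQc hy) x (mem_zpowers x)).symm
  have h1 := h.k hx hw hxw hQ hfq hf1 (U := U ⊓ Subgroup.centralizer ({x} : Set C)) (hU.to_le inf_le_left)
    (fun u hu => (mem_centralizer_singleton_iff.1 hu.2)) (by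
      rintro y hy u ⟨hu1, hu2⟩
      refine ⟨hUn y hy u hu1, ?_⟩
      replace hu2 := mem_centralizer_singleton_iff.1 hu2
      apply mem_centralizer_singleton_iff.2
      have e1 := hQx y hy
      have e2 : x * y⁻¹ = y⁻¹ * x := by
        rw [eq_inv_mul_iff_mul_eq, ← mul_assoc, e1, mul_inv_cancel_right]
      calc y * u * y⁻¹ * x = y * u * (y⁻¹ * x) := by group
        _ = y * (u * x) * y⁻¹ := by rw [← e2]; group
        _ = y * (x * u) * y⁻¹ := by rw [hu2]
        _ = (y * x) * u * y⁻¹ := by group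
        _ = x * (y * u * y⁻¹) := by rw [e1]; group)
  have hfqc : Nat.Coprime f q := (Nat.coprime_primes hf.out hq.out).2 hfq
  intro y hy u hu
  have hyo : (orderOf y).Coprime f := by
    obtain ⟨k, hk⟩ := IsPGroup.iff_card.1 Q.isPGroup'
    have h4 : orderOf y ∣ q ^ k := by
      rw [← hk]; exact Subgroup.orderOf_dvd_natCard _ hy
    exact Nat.Coprime.coprime_dvd_left h4 (Nat.Coprime.pow_left k hfqc.symm)
  have h2 := H225.AxB.axb (p := f) (V := U) (D := zpowers x) hU
    (by rw [zpowers_le]; exact Subgroup.le_normalizer hxU)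
    (by
      rintro d ⟨k, rfl⟩
      obtain ⟨j, hj⟩ := hU ⟨x, hxU⟩
      have hj' : x ^ f ^ j = 1 := congrArg Subtype.val hj
      refine ⟨j, ?_⟩
      have : (x ^ k) ^ f ^ j = 1 := by
        rw [← zpow_natCast, ← zpow_mul, mul_comm, zpow_mul, zpow_natCast, hj', one_zpow]
      rw [this]; exact one_mem _)
    (y := y) (by
      rw [mem_normalizer_iff]
      intro v
      constructor
      · exact hUn y hy v
      · intro hv
        have := hUn y⁻¹ (inv_mem hy) _ hv
        have e : y⁻¹ * (y * v * y⁻¹) * y⁻¹⁻¹ = v := by group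
        rwa [e] at this) hyo
    (by
      rintro d ⟨k, rfl⟩
      have e : x ^ k * y = y * x ^ k := ((show Commute y x from hQx y hy).zpow_right k).eq.symm
      have : x ^ k * y * (x ^ k)⁻¹ * y⁻¹ = 1 := by rw [e]; group
      rw [this]; exact one_mem _)
    (by
      intro v hv hvx
      refine h1 y hy v ⟨hv, ?_⟩
      apply mem_centralizer_singleton_iff.2
      exact (hvx x (mem_zpowers x)).symm)
  exact (mem_centralizer_iff.1 h2 u hu).symm

end Cfsg.Agent.H506.SC
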