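import Mathlib
import Cfsg.Agent.H506.SCMin
import Cfsg.Agent.H506.NRowDef

/-!
# Theorem N: nice elements of `C / Z(C)` (helper506)
-/

set_option autoImplicit false
set_option linter.dupNamespace false
set_option linter.unusedSectionVars false
set_option linter.style.haveILetI false

namespace Cfsg.Agent.H506.SC

open Subgroup Cfsg Cfsg.Agent.H506.QMin Cfsg.Agent.H506.NRow

section

variable {C : Type*} [Group C] {x : C}

theorem zcomm (a b : center C) : a * b = b * a := Subtype.ext (mem_center_iff.1 b.2 a)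

/-- the preimage of the centraliser of `x` modulo the centre -/
def pre (x : C) : Subgroup C :=
  (centralizer ({(x : C ⧸ center C)} : Set (C ⧸ center C))).comap (QuotientGroup.mk' (center C))

theorem mem_pre {g : C} : g ∈ pre x ↔ g * x * g⁻¹ * x⁻¹ ∈ center C := by
  rw [pre, mem_comap, mem_centralizer_singleton_iff, QuotientGroup.mk'_apply, ← QuotientGroup.mk_mul,
    ← QuotientGroup.mk_mul, eq_comm, QuotientGroup.eq]
  have hn : (center C).Normal := inferInstance
  constructor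
  · intro h
    have := hn.conj_mem _ h (x * g)
    have e : x * g * ((x * g)⁻¹ * (g * x)) * (x * g)⁻¹ = g * x * g⁻¹ * x⁻¹ := by group
    rwa [e] at this
  · intro h
    have := hn.conj_mem _ h (x * g)⁻¹
    have e : (x * g)⁻¹ * (g * x * g⁻¹ * x⁻¹) * (x * g)⁻¹⁻¹ = (x * g)⁻¹ * (g * x) := by group
    rwa [e] at this

/-- `g ↦ [g, x]` -/
def del (x : C) : pre x →* center C where
  toFun g := ⟨g * x * (g : C)⁻¹ * x⁻¹, mem_pre.1 g.2⟩
  map_one' := Subtype.ext (by simp)
  map_mul' g g' := Subtype.ext (by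
    have h1 := mem_center_iff.1 (mem_pre.1 g'.2) g
    change (g : C) * g' * x * ((g : C) * g')⁻¹ * x⁻¹ = (g : C) * x * (g : C)⁻¹ * x⁻¹ * (g' * x * (g' : C)⁻¹ * x⁻¹)
    calc (g : C) * g' * x * ((g : C) * g')⁻¹ * x⁻¹ = g * (g' * x * (g' : C)⁻¹ * x⁻¹) * (x * (g : C)⁻¹ * x⁻¹) := by group
      _ = (g' * x * (g' : C)⁻¹ * x⁻¹) * g * (x * (g : C)⁻¹ * x⁻¹) := by rw [h1]
      _ = (g' * x * (g' : C)⁻¹ * x⁻¹) * (g * x * (g : C)⁻¹ * x⁻¹) := by group
      _ = g * x * (g : C)⁻¹ * x⁻¹ * (g' * x * (g' : C)⁻¹ * x⁻¹) :=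
        (mem_center_iff.1 (mem_pre.1 g'.2) _).symm)

theorem del_ker (g : pre x) : g ∈ (del x).ker ↔ (g : C) * x = x * g := by
  rw [MonoidHom.mem_ker]
  constructor
  · intro h
    have h1 : (g : C) * x * (g : C)⁻¹ * x⁻¹ = 1 := congrArg Subtype.val h
    rw [mul_inv_eq_one, mul_inv_eq_iff_eq_mul] at h1
    exact h1
  · intro h
    apply Subtype.ext
    change (g : C) * x * (g : C)⁻¹ * x⁻¹ = 1
    rw [h]; group

variable [Finite C] {q : ℕ} [hq : Fact q.Prime]

theorem qs_pre (h : IsPSolvable q (centralizer ((zpowers x : Subgroup C) : Set C))) :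
    IsPSolvable q (centralizer ({(x : C ⧸ center C)} : Set (C ⧸ center C))) := by
  have h1 : IsPSolvable q (pre x) := by
    refine qs_of_surj (del x).rangeRestrict (del x).rangeRestrict_surjective ?_ ?_
    · rw [MonoidHom.ker_rangeRestrict]
      let f : (del x).ker →* centralizer ((zpowers x : Subgroup C) : Set C) :=
        { toFun := fun g => ⟨((g : pre x) : C), by
            rw [mem_centralizer_iff]
            rintro _ ⟨k, rfl⟩
            exact ((show Commute ((g : pre x) : C) x from (del_ker _).1 g.2).zpow_right k).eq.symm⟩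
          map_one' := rfl
          map_mul' := fun _ _ => rfl }
      refine Lib.PSolvable.IsPSolvable_of_injective q h f ?_
      intro a b hab
      apply Subtype.ext
      apply Subtype.ext
      have hab' := congrArg Subtype.val hab
      exact hab'
    · have : Group.IsSolvable (del x).range := by
        apply Group.isSolvable_of_comm
        intro a b
        apply Subtype.ext
        exact zcomm (a : center C) b
      exact Lib.PSolvable.IsPSolvable_of_solvable q
  let f : pre x →* centralizer ({(x : C ⧸ center C)} : Set (C ⧸ center C)) :=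
    ((QuotientGroup.mk' (center C)).comp (pre x).subtype).codRestrict _ fun g => g.2
  refine Lib.PSolvable.IsPSolvable_of_surjective q h1 f ?_
  rintro ⟨y, hy⟩
  obtain ⟨g, rfl⟩ := QuotientGroup.mk'_surjective _ y
  exact ⟨⟨g, hy⟩, rfl⟩

end

section lift

variable {C : Type*} [Group C] [Finite C] {f : ℕ} [hf : Fact f.Prime]

/-- Lifting an `f`-subgroup of `C / Z(C)` to an `f`-subgroup of `C`. -/
theorem exists_lift (M : Subgroup (C ⧸ center C)) (hM : IsPGroup f M) : ∃ U : Subgroup C, IsPGroup f U ∧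
    (∀ u ∈ U, (u : C ⧸ center C) ∈ M) ∧ (∀ m ∈ M, ∃ u ∈ U, (u : C ⧸ center C) = m) ∧
    (∀ y : C, (∀ m ∈ M, (y : C ⧸ center C) * m * (y : C ⧸ center C)⁻¹ ∈ M) → ∀ u ∈ U, y * u * y⁻¹ ∈ U) := by
  let π := QuotientGroup.mk' (center C)
  let N : Subgroup C := M.comap π
  let ρ : N →* M := (π.comp N.subtype).codRestrict M fun g => g.2
  have hρ : Function.Surjective ρ := by
    rintro ⟨y, hy⟩
    obtain ⟨g, rfl⟩ := QuotientGroup.mk'_surjective _ y
    exact ⟨⟨g, hy⟩, rfl⟩
  have hρv : ∀ g : N, ((ρ g : M) : C ⧸ center C) = ((g : C) : C ⧸ center C) := fun _ => rfl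
  obtain ⟨P⟩ : Nonempty (Sylow f N) := inferInstance
  have h1 : ∀ m : M, ∃ p ∈ (P : Subgroup N), ρ p = m := by
    intro m
    have h2 : ((P.mapSurjective hρ : Sylow f M) : Subgroup M) = ⊤ := by
      rw [eq_top_iff]
      have h3 : IsPGroup f (⊤ : Subgroup M) := hM.to_subgroup ⊤
      exact ((P.mapSurjective hρ).is_maximal' h3 le_top).le
    have h3 : m ∈ ((P.mapSurjective hρ : Sylow f M) : Subgroup M) := by rw [h2]; trivial
    rw [Sylow.coe_mapSurjective] at h3
    exact h3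
  have hPn : (P : Subgroup N).Normal := by
    constructor
    intro p hp g
    obtain ⟨p', hp', he⟩ := h1 (ρ g)
    have h2 : ((g * p'⁻¹ : N) : C) ∈ center C := by
      rw [← QuotientGroup.eq_one_iff]
      have h3 : ρ (g * p'⁻¹) = 1 := by rw [map_mul, map_inv, he, mul_inv_cancel]
      exact congrArg Subtype.val h3
    have h3 : g * p * g⁻¹ = p' * p * p'⁻¹ := by
      apply Subtype.ext
      have h4 := mem_center_iff.1 h2 ((p' : C) * p * (p' : C)⁻¹)
      change (g : C) * p * (g : C)⁻¹ = p' * p * (p' : C)⁻¹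
      have h5 : ((g * p'⁻¹ : N) : C) = (g : C) * (p' : C)⁻¹ := rfl
      rw [h5] at h4
      calc (g : C) * p * (g : C)⁻¹ = g * (p' : C)⁻¹ * (p' * p * (p' : C)⁻¹) * (g * (p' : C)⁻¹)⁻¹ := by group
        _ = (p' * p * (p' : C)⁻¹) * (g * (p' : C)⁻¹) * (g * (p' : C)⁻¹)⁻¹ := by rw [h4]
        _ = p' * p * (p' : C)⁻¹ := by group
    rw [h3]
    exact mul_mem (mul_mem hp' hp) (inv_mem hp')
  have hmem : ∀ g : N, (∃ k : ℕ, g ^ f ^ k = 1) → g ∈ (P : Subgroup N) := by
    rintro g ⟨k, hk⟩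
    have h2 : IsPGroup f (zpowers g) := by
      rintro ⟨_, j, rfl⟩
      refine ⟨k, Subtype.ext ?_⟩
      change (g ^ j) ^ f ^ k = 1
      rw [← zpow_natCast, ← zpow_mul, mul_comm, zpow_mul, zpow_natCast, hk, one_zpow]
    obtain ⟨P', hP'⟩ := h2.exists_le_sylow
    have : Subsingleton (Sylow f N) := (Sylow.unique_of_normal P hPn).instSubsingleton
    rw [Subsingleton.elim P' P] at hP'
    exact hP' (mem_zpowers g)
  refine ⟨(P : Subgroup N).map N.subtype, P.isPGroup'.map _, ?_, ?_, ?_⟩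
  · rintro _ ⟨u, hu, rfl⟩
    exact u.2
  · intro m hm
    obtain ⟨p, hp, he⟩ := h1 ⟨m, hm⟩
    exact ⟨p, ⟨p, hp, rfl⟩, congrArg Subtype.val he⟩
  · rintro y hy _ ⟨u, hu, rfl⟩
    have h2 : y * (u : C) * y⁻¹ ∈ N := by
      have := hy _ u.2
      exact this
    refine ⟨⟨y * (u : C) * y⁻¹, h2⟩, ?_, rfl⟩
    apply hmem
    obtain ⟨k, hk⟩ := P.isPGroup' ⟨u, hu⟩
    refine ⟨k, Subtype.ext ?_⟩
    have hk' : (u : N) ^ f ^ k = 1 := congrArg Subtype.val hk
    have hk'' : (u : C) ^ f ^ k = 1 := congrArg Subtype.val hk'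
    change (y * (u : C) * y⁻¹) ^ f ^ k = 1
    rw [conj_pow, hk'', mul_one, mul_inv_cancel]

end lift

variable {C W : Type*} [Group C] [Finite C] [CommGroup W] [Finite W] [Nontrivial W] {φ : C →* MulAut W} {q r : ℕ}
  [hq : Fact q.Prime] [hr : Fact r.Prime]

/-- Elements with fixed points are nice modulo the centre. -/
theorem Min.nice (h : Min q r φ) {x : C} (hx : x ≠ 1) {w : W} (hw : w ≠ 1) (hxw : φ x w = w) :
    Nice q (x : C ⧸ center C) := by
  refine ⟨qs_pre (h.qs_centralizer hx hw hxw), ?_⟩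
  obtain ⟨Q, hQ, -⟩ := h.sc w hw
  have hwx : w ∈ fx φ (zpowers x) := mem_fx_zpowers.2 hxw
  have hQc := h.sc.le_centralizer hw hwx hQ
  have hQx : ∀ y ∈ Q, y * x = x * y := fun y hy => (mem_centralizer_iff.1 (hQc hy) x (mem_zpowers x)).symm
  refine ⟨Q.mapSurjective (QuotientGroup.mk'_surjective (center C)), ?_, ?_⟩
  · intro y hy
    have hy' : y ∈ (Q : Subgroup C).map (QuotientGroup.mk' (center C)) := hy
    obtain ⟨z, hz, rfl⟩ := hy'
    exact congrArg (QuotientGroup.mk' (center C)) (hQx z hz)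
  · intro f hf hfq hf1 M hM hMx hMn
    haveI : Fact f.Prime := ⟨hf⟩
    obtain ⟨U, hU, hU1, hU2, hU3⟩ := exists_lift M hM
    have hUn : ∀ y ∈ Q, ∀ u ∈ U, y * u * y⁻¹ ∈ U := by
      intro y hy
      apply hU3
      intro m hm
      have h1 := hMn (y : C ⧸ center C) (show (y : C ⧸ center C) ∈ (Q : Subgroup C).map (QuotientGroup.mk' (center C))
        from ⟨y, hy, rfl⟩)
      exact (mem_normalizer_iff.1 h1 m).1 hm
    have hUp : ∀ u ∈ U, u * x * u⁻¹ * x⁻¹ ∈ center C := by
      intro u hu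
      have h1 : u ∈ pre x := hMx (hU1 u hu)
      exact mem_pre.1 h1
    have h1 := h.k hx hw hxw hQ hfq hf1 (U := U ⊓ Subgroup.centralizer ({x} : Set C)) (hU.to_le inf_le_left)
      (fun u hu => (mem_centralizer_singleton_iff.1 hu.2)) (by
        rintro y hy u ⟨hu1, hu2⟩
        refine ⟨hUn y hy u hu1, ?_⟩
        replace hu2 := mem_centralizer_singleton_iff.1 hu2
        apply mem_centralizer_singleton_iff.2
        have e1 := hQx y hy
        have e2 : x * y⁻¹ = y⁻¹ * x := by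
          rw [eq_inv_mul_iff_mul_eq, ← mul_assoc, e1, mul_inv_cancel_right]
        calc y * u * y⁻¹ * x = y * u * (y⁻¹ * x) := by group
          _ = y * (u * x) * y⁻¹ := by rw [← e2]; group
          _ = y * (x * u) * y⁻¹ := by rw [hu2]
          _ = (y * x) * u * y⁻¹ := by group
          _ = x * (y * u * y⁻¹) := by rw [e1]; group)
    have hfqc : Nat.Coprime f q := (Nat.coprime_primes hf hq.out).2 hfq
    have h2 : ∀ y ∈ Q, ∀ u ∈ U, y * u = u * y := by
      intro y hy
      have hyo : (orderOf y).Coprime f := by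
        obtain ⟨k, hk⟩ := IsPGroup.iff_card.1 Q.isPGroup'
        have h4 : orderOf y ∣ q ^ k := by
          rw [← hk]; exact Subgroup.orderOf_dvd_natCard _ hy
        exact Nat.Coprime.coprime_dvd_left h4 (Nat.Coprime.pow_left k hfqc.symm)
      refine Cop.cent_of_comm hU hyo fun u hu => ?_
      have h3 : y * u * y⁻¹ * u⁻¹ ∈ U := mul_mem (hUn y hy u hu) (inv_mem hu)
      refine ⟨h3, h1 y hy _ ⟨h3, ?_⟩⟩
      apply mem_centralizer_singleton_iff.2
      -- `[y, u]` commutes with `x`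
      have hy1 : y ∈ pre x := mem_pre.2 (by rw [hQx y hy]; simp)
      have hu1 : u ∈ pre x := hMx (hU1 u hu)
      have h4 := (del_ker ((⟨y, hy1⟩ : pre x) * ⟨u, hu1⟩ * (⟨y, hy1⟩ : pre x)⁻¹ * (⟨u, hu1⟩ : pre x)⁻¹)).1 (by
        rw [MonoidHom.mem_ker, map_mul, map_mul, map_mul, map_inv, map_inv, zcomm (del x ⟨y, hy1⟩)]
        group)
      exact h4
    intro y hy m hm
    have hy' : y ∈ (Q : Subgroup C).map (QuotientGroup.mk' (center C)) := hy
    obtain ⟨z, hz, rfl⟩ := hy'
    obtain ⟨u, hu, rfl⟩ := hU2 m hm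
    exact congrArg (QuotientGroup.mk' (center C)) (h2 z hz u hu)

end Cfsg.Agent.H506.SC
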