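import Mathlib
import Cfsg.Agent.H506.SCNice

/-!
# Theorem N: `NCtx` for `T = C / Z(C)` (helper506)
-/

set_option autoImplicit false
set_option linter.dupNamespace false
set_option linter.unusedSectionVars false
set_option linter.style.haveILetI false

namespace Cfsg.Agent.H506.SC

open Subgroup Cfsg Cfsg.Agent.H506.QMin Cfsg.Agent.H506.NRow

/-- Groups of prime power order acting without fixed points. -/
def FPF {C W : Type*} [Group C] [Group W] (φ : C →* MulAut W) : Prop :=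
  ∀ (f : ℕ), f.Prime → ∀ (M : Subgroup C), IsPGroup f M → (∀ x ∈ M, x ≠ 1 → ∀ w : W, φ x w = w → w = 1) →
    IsCyclic M ∨ ∃ n : ℕ, Nonempty (M ≃* QuaternionGroup (2 ^ n))

variable {C W : Type*} [Group C] [Finite C] [CommGroup W] [Finite W] [Nontrivial W] {φ : C →* MulAut W} {q r : ℕ}
  [hq : Fact q.Prime] [hr : Fact r.Prime]

theorem exists_order {f : ℕ} [hf : Fact f.Prime] {U : Subgroup C} (hU : IsPGroup f U) {x : C} (hx : x ∈ U)
    (hx1 : x ≠ 1) {w : W} (hw : φ x w = w) : ∃ y ∈ U, orderOf y = f ∧ φ y w = w := by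
  obtain ⟨k, hk⟩ := IsPGroup.iff_orderOf.1 hU ⟨x, hx⟩
  have hk' : orderOf x = f ^ k := by rw [← hk, Subgroup.orderOf_mk]
  have hk0 : k ≠ 0 := by
    rintro rfl
    rw [pow_zero, orderOf_eq_one_iff] at hk'
    exact hx1 hk'
  obtain ⟨j, rfl⟩ := Nat.exists_eq_succ_of_ne_zero hk0
  refine ⟨x ^ f ^ j, pow_mem hx _, ?_, ?_⟩
  · rw [orderOf_pow_of_dvd (pow_ne_zero _ hf.out.ne_zero) (by rw [hk']; exact pow_dvd_pow f (Nat.le_succ j)), hk',
      Nat.pow_succ, Nat.mul_div_cancel_left _ (pow_pos hf.out.pos j)]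
  · have h1 : w ∈ fx φ (zpowers x) := mem_fx_zpowers.2 hw
    exact h1 _ (pow_mem (mem_zpowers x) _)

section

variable (h : Min q r φ) (hZ : pPrimeCore q C ≤ center C)

include h

theorem Min.center_ne_top : center C ≠ ⊤ := by
  intro ht
  apply h.notqs
  have : Group.IsSolvable C := Group.isSolvable_of_comm fun a b => by
    have h1 : b ∈ center C := by rw [ht]; trivial
    exact mem_center_iff.1 h1 a
  exact Lib.PSolvable.IsPSolvable_of_solvable q

theorem Min.q_center : ¬ q ∣ Nat.card (center C) := h.qm.coprime _ h.center_ne_top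

theorem Min.dvd_quot : q ∣ Nat.card (C ⧸ center C) := by
  have h1 := h.qm.dvd
  rw [← Subgroup.card_mul_index (center C)] at h1
  rcases (hq.out.dvd_mul).1 h1 with h2 | h2
  · exact absurd h2 h.q_center
  · exact h2

theorem Min.exists_nice_of_order {f : ℕ} [hf : Fact f.Prime] {y : C} (hy : orderOf y = f) {w : W} (hw : w ≠ 1)
    (hyw : φ y w = w) : orderOf (y : C ⧸ center C) = f ∧ Nice q (y : C ⧸ center C) := by
  have hy1 : y ≠ 1 := by
    rintro rfl
    rw [orderOf_one] at hy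
    exact hf.out.one_lt.ne hy
  refine ⟨?_, h.nice hy1 hw hyw⟩
  apply orderOf_eq_prime
  · rw [← QuotientGroup.mk_pow, ← hy, pow_orderOf_eq_one]; rfl
  · intro h1
    exact hy1 (h.central ((QuotientGroup.eq_one_iff y).1 h1) hw hyw)

theorem Min.noncyc (hF : FPF φ) (f : ℕ) (hf : f.Prime) (hf2 : f ≠ 2) (M : Subgroup (C ⧸ center C))
    (hM : IsPGroup f M) (hMc : ¬ IsCyclic M) : ∃ x ∈ M, orderOf x = f ∧ Nice q x := by
  haveI : Fact f.Prime := ⟨hf⟩
  obtain ⟨U, hU, hU1, hU2, -⟩ := exists_lift M hM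
  have h1 : ∃ x ∈ U, x ≠ 1 ∧ ∃ w : W, w ≠ 1 ∧ φ x w = w := by
    by_contra hcon
    push Not at hcon
    rcases hF f hf U hU (fun x hx hx1 w hw => by
      by_contra hw1
      exact hcon x hx hx1 w hw1 hw) with h2 | ⟨n, ⟨e⟩⟩
    · apply hMc
      let ρ : U →* M := ((QuotientGroup.mk' (center C)).comp U.subtype).codRestrict M fun u => hU1 u u.2
      refine isCyclic_of_surjective ρ ?_
      rintro ⟨m, hm⟩
      obtain ⟨u, hu, rfl⟩ := hU2 m hm
      exact ⟨⟨u, hu⟩, rfl⟩
    · obtain ⟨k, hk⟩ := IsPGroup.iff_card.1 hU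
      have h3 : Nat.card U = 4 * 2 ^ n := by
        rw [Nat.card_congr e.toEquiv, Nat.card_eq_fintype_card]
        haveI : NeZero (2 ^ n) := ⟨pow_ne_zero _ two_ne_zero⟩
        exact QuaternionGroup.card
      have h4 : 2 ∣ f ^ k := by rw [← hk, h3]; exact ⟨2 * 2 ^ n, by ring⟩
      have h5 := Nat.prime_two.dvd_of_dvd_pow h4
      exact hf2 ((Nat.prime_dvd_prime_iff_eq Nat.prime_two hf).1 h5).symm
  obtain ⟨x, hxU, hx1, w, hw, hxw⟩ := h1
  obtain ⟨y, hyU, hyo, hyw⟩ := exists_order hU hxU hx1 hxw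
  exact ⟨y, hU1 y hyU, h.exists_nice_of_order hyo hw hyw⟩

theorem Min.nctx' (hF : FPF φ) : NCtx' q (C ⧸ center C) where
  prime := hq.out
  odd := h.q2
  dvd := h.dvd_quot
  ab := sylow_ab_map h.qm.ab (QuotientGroup.mk' (center C)) (QuotientGroup.mk'_surjective _)
  noncyc := h.noncyc hF

theorem Min.nctx_or (hF : FPF φ) :
    NCtx q (C ⧸ center C) ∨ (∀ a b : C, orderOf a = 2 → orderOf b = 2 → a = b) := by
  by_cases hi : ∃ a : C, orderOf a = 2 ∧ ∃ w : W, w ≠ 1 ∧ φ a w = w
  · left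
    obtain ⟨a, ha, w, hw, haw⟩ := hi
    have h1 := h.nctx' hF
    haveI : Fact (Nat.Prime 2) := ⟨Nat.prime_two⟩
    exact ⟨h1.prime, h1.odd, h1.dvd, h1.ab, h1.noncyc, ⟨_, h.exists_nice_of_order ha hw haw⟩⟩
  · right
    push Not at hi
    have key : ∀ a : C, orderOf a = 2 → ∀ w : W, φ a w = w⁻¹ := by
      intro a ha w
      have h1 : φ a (φ a w) = w := by
        rw [← φ_mul, ← sq, ← ha, pow_orderOf_eq_one, φ_one]
      have h2 : φ a (w * φ a w) = w * φ a w := by rw [map_mul, h1, mul_comm]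
      by_contra hne
      refine hi a ha (w * φ a w) (fun h3 => hne ?_) h2
      exact (inv_eq_of_mul_eq_one_right h3).symm
    intro a b ha hb
    apply h.inj
    ext w
    rw [key a ha, key b hb]

include hZ

/-- `C / Z(C)` is simple. -/
theorem Min.simple : IsSimpleGroup (C ⧸ center C) := by
  haveI : Nontrivial (C ⧸ center C) := by
    by_contra hn
    rw [not_nontrivial_iff_subsingleton] at hn
    exact h.center_ne_top (QuotientGroup.subgroup_eq_top_of_subsingleton _ hn)
  refine ⟨fun N hN => ?_⟩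
  by_cases ht : N.comap (QuotientGroup.mk' (center C)) = ⊤
  · right
    rw [eq_top_iff]
    intro x _
    obtain ⟨g, rfl⟩ := QuotientGroup.mk'_surjective _ x
    have h2 : g ∈ N.comap (QuotientGroup.mk' (center C)) := by rw [ht]; trivial
    exact h2
  · left
    haveI : (N.comap (QuotientGroup.mk' (center C))).Normal := hN.comap _
    have h1 := (h.qm.le_core _ ht).trans hZ
    rw [eq_bot_iff]
    intro x hx
    obtain ⟨g, rfl⟩ := QuotientGroup.mk'_surjective _ x
    have h2 := h1 (show g ∈ N.comap (QuotientGroup.mk' (center C)) from hx)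
    rw [mem_bot]
    exact (QuotientGroup.eq_one_iff g).2 h2

theorem Min.nonab : ¬ IsMulCommutative (C ⧸ center C) := by
  intro hc
  have h1 : Group.IsSolvable (C ⧸ center C) := Group.isSolvable_of_comm fun a b => hc.is_comm.comm a b
  exact h.center_ne_top (h.qm.eq_top (center C) (Lib.PSolvable.IsPSolvable_of_solvable q))

end

end Cfsg.Agent.H506.SC
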