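import Mathlib
import Cfsg.Agent.H506.SCAsm
import Cfsg.Agent.H532.Thr.Com

/-!
# Theorem N: `O_{q'}(C) = Z(C)` (helper506)
-/

set_option autoImplicit false
set_option linter.dupNamespace false
set_option linter.unusedSectionVars false
set_option linter.style.haveILetI false

namespace Cfsg.Agent.H506.Cop

open Subgroup

variable {Y : Type*} [Group Y] {Q O : Subgroup Y} [Finite Y] {f : ℕ} [hf : Fact f.Prime]

/-- An invariant Sylow subgroup containing a fixed element. -/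
theorem exists_inv_sylow_mem (hs : Group.IsSolvable Q) (hn : ∀ y ∈ Q, ∀ x ∈ O, y * x * y⁻¹ ∈ O)
    (hcop : (Nat.card Q).Coprime (Nat.card O)) {x : Y} (hxO : x ∈ O) (hxf : IsPGroup f (zpowers x))
    (hxQ : ∀ y ∈ Q, y * x = x * y) :
    ∃ P : Sylow f O, (∀ y ∈ Q, ∀ x ∈ (P : Subgroup O).map O.subtype, y * x * y⁻¹ ∈ (P : Subgroup O).map O.subtype) ∧
      x ∈ (P : Subgroup O).map O.subtype := by
  letI := act hn
  have h1 : zpowers (⟨x, hxO⟩ : O) = (zpowers x).subgroupOf O := by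
    ext ⟨z, hz⟩
    rw [mem_subgroupOf]
    constructor
    · rintro ⟨k, hk⟩
      exact ⟨k, congrArg Subtype.val hk⟩
    · rintro ⟨k, hk⟩
      exact ⟨k, Subtype.ext hk⟩
  obtain ⟨P, hP, hle⟩ := H532.CopAct.exists_inv_sylow_ge (A := Q) (G := O) hcop (Or.inl hs) f
    (zpowers (⟨x, hxO⟩ : O)) (by
      rw [h1]
      exact hxf.comap_of_injective O.subtype O.subtype_injective) (by
      intro a z hz
      obtain ⟨k, rfl⟩ := hz
      have h2 : a • ((⟨x, hxO⟩ : O) ^ k) = (⟨x, hxO⟩ : O) ^ k := by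
        apply Subtype.ext
        change (a : Y) * x ^ k * (a : Y)⁻¹ = x ^ k
        rw [mul_inv_eq_iff_eq_mul]
        exact (show Commute (a : Y) x from hxQ a a.2).zpow_right k
      rw [h2]
      exact ⟨k, rfl⟩)
  refine ⟨P, ?_, ⟨⟨x, hxO⟩, hle (mem_zpowers _), rfl⟩⟩
  rintro y hy _ ⟨z, hz, rfl⟩
  exact ⟨(⟨y, hy⟩ : Q) • z, H532.CopAct.smul_mem_of_smul_eq P hP ⟨y, hy⟩ hz, rfl⟩

end Cfsg.Agent.H506.Cop

namespace Cfsg.Agent.H506.SC

open Subgroup Cfsg Cfsg.Agent.H506.QMin Cfsg.Agent.H506.NRow Cfsg.Agent.H532.Thr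

/-- Facts about groups used below. -/
structure Facts.{u} (q : ℕ) : Prop where
  aut_solv : ∀ n : ℕ, Group.IsSolvable (MulAut (QuaternionGroup (2 ^ n)))
  aut_odd : ∀ (n : ℕ) (α : MulAut (QuaternionGroup (2 ^ n))), (orderOf α).Coprime 6 → α = 1
  /-- `[L, b]` is solvable -/
  f5 : ∀ (L : Type u) [Group L] [Finite L] (b : MulAut L), b ^ q = 1 → ¬ q ∣ Nat.card L →
    (∀ f : ℕ, f.Prime → f ∣ (fix b).index → q ∣ f - 1) →
    ∃ R : Subgroup L, R.Characteristic ∧ Group.IsSolvable R ∧ ∀ x, b x * x⁻¹ ∈ R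
  quat : ∀ (L : Type u) [Group L] [Finite L] (P : Sylow 2 L) (n : ℕ), 1 ≤ n →
    Nonempty (P ≃* QuaternionGroup (2 ^ n)) → ¬ 3 ∣ Nat.card L → Group.IsSolvable L

universe u v

variable {C : Type u} {W : Type v} [Group C] [Finite C] [CommGroup W] [Finite W] [Nontrivial W] {φ : C →* MulAut W}
  {q r : ℕ} [hq : Fact q.Prime] [hr : Fact r.Prime]

theorem q_not_dvd_one : ¬ q ∣ 2 - 1 := fun h => hq.out.one_lt.ne' (Nat.dvd_one.1 h)

theorem Min.two_central (h : Min q r φ) (hF : FPF φ) (hA : Facts.{u} q) (N : Subgroup C) (hN : N.Normal)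
    (hNf : IsPGroup 2 N) : N ≤ center C := by
  haveI : Fact (Nat.Prime 2) := ⟨Nat.prime_two⟩
  by_cases hx : ∃ x ∈ N, x ≠ 1 ∧ ∃ w : W, w ≠ 1 ∧ φ x w = w
  · obtain ⟨x, hxN, hx1, w, hw, hxw⟩ := hx
    obtain ⟨Q, hQ, -⟩ := h.sc w hw
    exact h.qm.le_center_of_sylow N Q (h.kplus hx1 hw hxw hQ (Ne.symm h.q2) q_not_dvd_one hNf hxN
      fun y _ u hu => hN.conj_mem u hu y)
  · push Not at hx
    rcases hF 2 Nat.prime_two N hNf (fun x hxN hx1 w hw => by
      by_contra hw1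
      exact hx x hxN hx1 w hw1 hw) with h2 | ⟨n, ⟨e⟩⟩
    · exact Perf.le_center_of_cyclic h.qm.perfect N h2
    · apply Perf.le_center_of_solvable_aut h.qm.perfect N
      have := hA.aut_solv n
      exact Group.isSolvable_of_isSolvable_injective (f := (MulAut.congr e).toMonoidHom) (MulAut.congr e).injective

/-- Solvable normal subgroups are central. -/
theorem Min.solvable_central (h : Min q r φ) (hF : FPF φ) (hA : Facts.{u} q) (S : Subgroup C) (hS : S.Normal)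
    (hs : Group.IsSolvable S) : S ≤ center C := by
  refine h.qm.solvable_le (fun f hf M hM hMf => ?_) S hS hs
  by_cases h2 : f = 2
  · subst h2
    exact h.two_central hF hA M hM hMf
  · exact h.odd_central hf h2 M hM hMf

/-- automorphisms of `q`-power order of cyclic `f`-groups -/
theorem cyc_trivial {f : ℕ} [hf : Fact f.Prime] (hfq : f ≠ q) (hf1 : ¬ q ∣ f - 1) {F : Subgroup C}
    (hF : IsPGroup f F) (hc : IsCyclic F) {y : C} (hy : ∃ k : ℕ, y ^ q ^ k = 1) (hn : ∀ x ∈ F, y * x * y⁻¹ ∈ F) :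
    ∀ x ∈ F, y * x = x * y := by
  have hn' : y ∈ normalizer (F : Set C) := by
    rw [mem_normalizer_iff]
    intro v
    refine ⟨hn v, fun hv => ?_⟩
    have h1 : ∀ k : ℕ, ∀ x ∈ F, y ^ k * x * (y ^ k)⁻¹ ∈ F := by
      intro k
      induction k with
      | zero => intro x hx; simpa using hx
      | succ k ih =>
        intro x hx
        have := hn _ (ih x hx)
        have e : y * (y ^ k * x * (y ^ k)⁻¹) * y⁻¹ = y ^ (k + 1) * x * (y ^ (k + 1))⁻¹ := by
          rw [pow_succ']; group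
        rwa [e] at this
    obtain ⟨k, hk⟩ := hy
    have hpos : 0 < q ^ k := pow_pos hq.out.pos k
    have h2 := h1 (q ^ k - 1) _ hv
    have h3 : y ^ (q ^ k - 1) * y = 1 := by rw [← pow_succ, Nat.sub_add_cancel hpos, hk]
    have h4 : y ^ (q ^ k - 1) = y⁻¹ := eq_inv_of_mul_eq_one_left h3
    rw [h4] at h2
    have e : y⁻¹ * (y * v * y⁻¹) * y⁻¹⁻¹ = v := by group
    rwa [e] at h2
  let α : MulAut F := F.normalizerMonoidHom ⟨y, hn'⟩
  obtain ⟨k, hk⟩ := hy
  have h1 : α ^ q ^ k = 1 := by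
    have h2 : (⟨y, hn'⟩ : normalizer (F : Set C)) ^ q ^ k = 1 := Subtype.ext hk
    rw [← map_pow, h2, map_one]
  have h2 : orderOf α ∣ Nat.card (MulAut F) := orderOf_dvd_natCard α
  have h3 : Nat.card (MulAut F) = Nat.card (ZMod (Nat.card F))ˣ :=
    Nat.card_congr (IsCyclic.mulAutMulEquiv F).toEquiv
  obtain ⟨n, hn2⟩ := IsPGroup.iff_card.1 hF
  rw [h3, hn2] at h2
  have h4 : α = 1 := by
    haveI : NeZero (f ^ n) := ⟨pow_ne_zero _ hf.out.ne_zero⟩
    rw [Nat.card_eq_fintype_card, ZMod.card_units_eq_totient] at h2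
    rcases Nat.eq_zero_or_pos n with rfl | hn0
    · rw [pow_zero, Nat.totient_one, Nat.dvd_one, orderOf_eq_one_iff] at h2
      exact h2
    · rw [Nat.totient_prime_pow hf.out hn0] at h2
      obtain ⟨j, -, hj⟩ := (Nat.dvd_prime_pow hq.out).1 (orderOf_dvd_of_pow_eq_one h1)
      rcases Nat.eq_zero_or_pos j with rfl | hj0
      · rw [pow_zero, orderOf_eq_one_iff] at hj
        exact hj
      · exfalso
        have h5 : q ∣ f ^ (n - 1) * (f - 1) := (dvd_pow_self q hj0.ne').trans (hj ▸ h2)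
        rcases (hq.out.dvd_mul).1 h5 with h6 | h6
        · exact hfq ((Nat.prime_dvd_prime_iff_eq hq.out hf.out).1 (hq.out.dvd_of_dvd_pow h6)).symm
        · exact hf1 h6
  intro x hx
  have h5 : α ⟨x, hx⟩ = ⟨x, hx⟩ := by rw [h4]; rfl
  have h6 : y * x * y⁻¹ = x := congrArg Subtype.val h5
  exact mul_inv_eq_iff_eq_mul.1 h6

/-- automorphisms of `q`-power order, `5 ≤ q`, of quaternion groups -/
theorem quat_trivial (hA : Facts.{u} q) (h2 : q ≠ 2) (h3 : q ≠ 3) {F : Subgroup C} {n : ℕ}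
    (e : F ≃* QuaternionGroup (2 ^ n)) {y : C} (hy : ∃ k : ℕ, y ^ q ^ k = 1) (hn : y ∈ normalizer (F : Set C)) :
    ∀ x ∈ F, y * x = x * y := by
  let α : MulAut F := F.normalizerMonoidHom ⟨y, hn⟩
  obtain ⟨k, hk⟩ := hy
  have h1 : α ^ q ^ k = 1 := by
    have h2 : (⟨y, hn⟩ : normalizer (F : Set C)) ^ q ^ k = 1 := Subtype.ext hk
    rw [← map_pow, h2, map_one]
  have h4 : (MulAut.congr e) α = 1 := by
    apply hA.aut_odd
    have h5 : orderOf ((MulAut.congr e) α) ∣ q ^ k := by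
      apply orderOf_dvd_of_pow_eq_one
      rw [← map_pow, h1, map_one]
    have h6 : q.Coprime 6 := by
      have e6 : 6 = 2 * 3 := rfl
      rw [e6]
      exact Nat.Coprime.mul_right ((Nat.coprime_primes hq.out Nat.prime_two).2 h2)
        ((Nat.coprime_primes hq.out Nat.prime_three).2 h3)
    exact Nat.Coprime.coprime_dvd_left h5 (Nat.Coprime.pow_left k h6)
  have h5 : α = 1 := (MulAut.congr e).injective (by rw [h4, map_one])
  intro x hx
  have h5 : α ⟨x, hx⟩ = ⟨x, hx⟩ := by rw [h5]; rfl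
  have h6 : y * x * y⁻¹ = x := congrArg Subtype.val h5
  exact mul_inv_eq_iff_eq_mul.1 h6

end Cfsg.Agent.H506.SC
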