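import Mathlib
import Cfsg.Agent.H506.SCCore

/-!
# Theorem N: `O_{q'}(C) = Z(C)`, second part (helper506)
-/

set_option autoImplicit false
set_option linter.dupNamespace false
set_option linter.unusedSectionVars false
set_option linter.style.haveILetI false

namespace Cfsg.Agent.H506.SC

open Subgroup Cfsg Cfsg.Agent.H506.QMin Cfsg.Agent.H506.NRow Cfsg.Agent.H532.Thr

universe u v

variable {C : Type u} {W : Type v} [Group C] [Finite C] [CommGroup W] [Finite W] [Nontrivial W] {φ : C →* MulAut W}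
  {q r : ℕ} [hq : Fact q.Prime] [hr : Fact r.Prime]

theorem sylow_solvable (Q : Sylow q C) : Group.IsSolvable (Q : Subgroup C) := by
  have := Q.isPGroup'.isNilpotent
  infer_instance

theorem sylow_coprime (Q : Sylow q C) : (Nat.card (Q : Subgroup C)).Coprime (Nat.card (pPrimeCore q C)) := by
  obtain ⟨k, hk⟩ := IsPGroup.iff_card.1 Q.isPGroup'
  rw [hk]
  exact Nat.Coprime.pow_left k (Lib.Cores.pPrimeCore_coprime q).symm

theorem Min.exists_sylow_cent (h : Min q r φ) (hF : FPF φ) (hA : Facts.{u} q) {f : ℕ} (hf : f.Prime) (hfq : f ≠ q)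
    (hf1 : ¬ q ∣ f - 1) : Group.IsSolvable (pPrimeCore q C) ∨
      ∃ (Q : Sylow q C) (P : Sylow f (pPrimeCore q C)), ∀ y ∈ Q,
        ∀ x ∈ (P : Subgroup (pPrimeCore q C)).map (pPrimeCore q C).subtype, y * x = x * y := by
  haveI : Fact f.Prime := ⟨hf⟩
  have hO : (pPrimeCore q C).Normal := Lib.Cores.pPrimeCore_normal q
  by_cases hA1 : ∃ x ∈ pPrimeCore q C, x ≠ 1 ∧ (∃ k : ℕ, x ^ f ^ k = 1) ∧ ∃ w : W, w ≠ 1 ∧ φ x w = w
  · right
    obtain ⟨x, hxO, hx1, ⟨k, hk⟩, w, hw, hxw⟩ := hA1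
    obtain ⟨Q, hQ, hQ2⟩ := h.sc w hw
    have hQx : ∀ y ∈ Q, y * x = x * y := fun y hy => (hQ2 x hxw y hy).symm
    have hxf : IsPGroup f (zpowers x) := by
      rintro ⟨_, j, rfl⟩
      refine ⟨k, Subtype.ext ?_⟩
      change (x ^ j) ^ f ^ k = 1
      rw [← zpow_natCast, ← zpow_mul, mul_comm, zpow_mul, zpow_natCast, hk, one_zpow]
    obtain ⟨P, hP, hxP⟩ := Cop.exists_inv_sylow_mem (sylow_solvable Q) (fun y _ x hx => hO.conj_mem x hx y)
      (sylow_coprime Q) hxO hxf hQx
    exact ⟨Q, P, h.kplus hx1 hw hxw hQ hfq hf1 (P.isPGroup'.map _) hxP hP⟩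
  · push Not at hA1
    obtain ⟨Q⟩ : Nonempty (Sylow q C) := inferInstance
    obtain ⟨P, hP⟩ := Cop.exists_inv_sylow (sylow_solvable Q) (fun y _ x hx => hO.conj_mem x hx y)
      (sylow_coprime Q) f
    set F : Subgroup C := (P : Subgroup (pPrimeCore q C)).map (pPrimeCore q C).subtype with hFdef
    have hFp : IsPGroup f F := P.isPGroup'.map _
    have hQpow : ∀ y ∈ Q, ∃ k : ℕ, y ^ q ^ k = 1 := by
      intro y hy
      obtain ⟨k, hk⟩ := Q.isPGroup' ⟨y, hy⟩
      exact ⟨k, congrArg Subtype.val hk⟩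
    have hcase := hF f hf F hFp (fun x hxF hx1 w hw => by
      by_contra hw1
      obtain ⟨k, hk⟩ := hFp ⟨x, hxF⟩
      have hxO : x ∈ pPrimeCore q C := by
        obtain ⟨z, -, rfl⟩ := hxF
        exact z.2
      exact hA1 x hxO hx1 ⟨k, congrArg Subtype.val hk⟩ w hw1 hw)
    have hcyc : IsCyclic F → Group.IsSolvable (pPrimeCore q C) ∨
        ∃ (Q : Sylow q C) (P : Sylow f (pPrimeCore q C)), ∀ y ∈ Q,
          ∀ x ∈ (P : Subgroup (pPrimeCore q C)).map (pPrimeCore q C).subtype, y * x = x * y := fun hc =>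
      Or.inr ⟨Q, P, fun y hy => cyc_trivial hfq hf1 hFp hc (hQpow y hy) (hP y hy)⟩
    rcases hcase with hc | ⟨n, ⟨e⟩⟩
    · exact hcyc hc
    · rcases Nat.eq_zero_or_pos n with rfl | hn
      · apply hcyc
        have h1 : IsCyclic (QuaternionGroup (2 ^ 0)) := QuaternionGroup.quaternionGroup_one_isCyclic
        exact isCyclic_of_surjective e.symm e.symm.surjective
      · have hf2 : f = 2 := by
          obtain ⟨k, hk⟩ := IsPGroup.iff_card.1 hFp
          have h3 : Nat.card F = 4 * 2 ^ n := by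
            rw [Nat.card_congr e.toEquiv, Nat.card_eq_fintype_card]
            haveI : NeZero (2 ^ n) := ⟨pow_ne_zero _ two_ne_zero⟩
            exact QuaternionGroup.card
          have h4 : 2 ∣ f ^ k := by rw [← hk, h3]; exact ⟨2 * 2 ^ n, by ring⟩
          have h5 := Nat.prime_two.dvd_of_dvd_pow h4
          exact ((Nat.prime_dvd_prime_iff_eq Nat.prime_two hf).1 h5).symm
        subst hf2
        by_cases hq3 : q = 3
        · left
          subst hq3
          let e' : P ≃* F := (P : Subgroup (pPrimeCore 3 C)).equivMapOfInjective _ (pPrimeCore 3 C).subtype_injective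
          refine hA.quat (pPrimeCore 3 C) P n hn ⟨e'.trans e⟩ ?_
          exact (Nat.Prime.coprime_iff_not_dvd Nat.prime_three).1 (Lib.Cores.pPrimeCore_coprime 3).symm
        · right
          refine ⟨Q, P, fun y hy => quat_trivial hA h.q2 hq3 e (hQpow y hy) ?_⟩
          rw [mem_normalizer_iff]
          intro v
          refine ⟨hP y hy v, fun hv => ?_⟩
          have := hP y⁻¹ (inv_mem hy) _ hv
          have e : y⁻¹ * (y * v * y⁻¹) * y⁻¹⁻¹ = v := by group
          rwa [e] at this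

/-- `O_{q'}(C)` is central. -/
theorem Min.core_le (h : Min q r φ) (hF : FPF φ) (hA : Facts.{u} q) : pPrimeCore q C ≤ center C := by
  have hO : (pPrimeCore q C).Normal := Lib.Cores.pPrimeCore_normal q
  by_cases hs : Group.IsSolvable (pPrimeCore q C)
  · exact h.solvable_central hF hA _ hO hs
  have hOq : ¬ q ∣ Nat.card (pPrimeCore q C) :=
    (Nat.Prime.coprime_iff_not_dvd hq.out).1 (Lib.Cores.pPrimeCore_coprime q).symm
  obtain ⟨y, hy⟩ := exists_prime_orderOf_dvd_card' q h.qm.dvd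
  have hyO : y ∉ pPrimeCore q C := by
    intro h1
    apply hOq
    have h2 := Subgroup.orderOf_dvd_natCard _ h1
    rwa [hy] at h2
  have hyp : IsPGroup q (zpowers y) := by
    rintro ⟨_, j, rfl⟩
    refine ⟨1, Subtype.ext ?_⟩
    change (y ^ j) ^ q ^ 1 = 1
    rw [pow_one, ← hy, ← zpow_natCast, ← zpow_mul, mul_comm, zpow_mul, zpow_natCast, pow_orderOf_eq_one, one_zpow]
  obtain ⟨Q₀, hQ₀⟩ := hyp.exists_le_sylow
  let b : C → MulAut (pPrimeCore q C) := fun z => MulAut.conjNormal z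
  have hb : ∀ (z : C) (x : pPrimeCore q C), ((b z x : pPrimeCore q C) : C) = z * x * z⁻¹ := fun z x =>
    MulAut.conjNormal_apply z x
  have hfix : ∀ (z : C) (x : pPrimeCore q C), x ∈ fix (b z) ↔ z * (x : C) = x * z := by
    intro z x
    rw [mem_fix]
    constructor
    · intro h1
      have h2 := congrArg Subtype.val h1
      rw [hb, mul_inv_eq_iff_eq_mul] at h2
      exact h2
    · intro h1
      apply Subtype.ext
      rw [hb, h1, mul_inv_cancel_right]
  obtain ⟨R, hR, hRs, hRx⟩ := hA.f5 (pPrimeCore q C) (b y) (by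
    change (MulAut.conjNormal y : MulAut (pPrimeCore q C)) ^ q = 1
    have hyq : y ^ q = 1 := by rw [← orderOf_dvd_iff_pow_eq_one, hy]
    rw [← map_pow, hyq, map_one]) hOq (by
    intro f hf hfd
    by_contra hf1
    have hfq : f ≠ q := by
      rintro rfl
      exact hOq (hfd.trans (index_dvd_card _))
    haveI : Fact f.Prime := ⟨hf⟩
    rcases h.exists_sylow_cent hF hA hf hfq hf1 with h1 | ⟨Q, P, hQP⟩
    · exact hs h1
    · obtain ⟨g, rfl⟩ := MulAction.exists_smul_eq C Q Q₀
      have h2 : g⁻¹ * y * g ∈ Q := mem_smul_sylow.1 (hQ₀ (mem_zpowers y))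
      let γ : MulAut (pPrimeCore q C) := MulAut.conjNormal g
      have h3 : (P : Subgroup (pPrimeCore q C)) ≤ (fix (b y)).comap γ.toMonoidHom := by
        intro x hx
        change (MulAut.conjNormal g x : pPrimeCore q C) ∈ fix (b y)
        rw [hfix, MulAut.conjNormal_apply]
        have h4 := hQP _ h2 x ⟨x, hx, rfl⟩
        have h4' : g⁻¹ * y * g * (x : C) = x * (g⁻¹ * y * g) := h4
        calc y * (g * (x : C) * g⁻¹) = g * (g⁻¹ * y * g * x) * g⁻¹ := by group
          _ = g * (x * (g⁻¹ * y * g)) * g⁻¹ := by rw [h4']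
          _ = g * (x : C) * g⁻¹ * y := by group
      have h4 := index_dvd_of_le h3
      rw [index_comap_of_surjective (f := γ.toMonoidHom) (fix (b y)) γ.surjective] at h4
      exact P.not_dvd_index (hfd.trans h4))
  -- `R` is central in `C`
  haveI : R.Characteristic := hR
  have hRc : R.map (pPrimeCore q C).subtype ≤ center C := by
    apply h.solvable_central hF hA _ inferInstance
    have e := R.equivMapOfInjective _ (pPrimeCore q C).subtype_injective
    exact Group.isSolvable_of_isSolvable_injective (f := e.symm.toMonoidHom) e.symm.injective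
  apply h.qm.le_center (pPrimeCore q C) hyO
  intro x hx
  have h1 : y * x * y⁻¹ * x⁻¹ ∈ center C := by
    have h2 := hRx ⟨x, hx⟩
    have h3 := hRc ⟨_, h2, rfl⟩
    have e : (pPrimeCore q C).subtype (b y ⟨x, hx⟩ * (⟨x, hx⟩ : pPrimeCore q C)⁻¹) = y * x * y⁻¹ * x⁻¹ := by
      change ((b y ⟨x, hx⟩ : pPrimeCore q C) : C) * x⁻¹ = _
      rw [hb]
    rwa [e] at h3
  have h2 : y * x * y⁻¹ * x⁻¹ ∈ pPrimeCore q C := mul_mem (hO.conj_mem x hx y) (inv_mem hx)
  set z := y * x * y⁻¹ * x⁻¹ with hz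
  have h3 : ∀ k : ℕ, y ^ k * x * (y ^ k)⁻¹ = z ^ k * x := by
    intro k
    induction k with
    | zero => simp
    | succ k ih =>
      have h4 := mem_center_iff.1 (pow_mem h1 k) y
      calc y ^ (k + 1) * x * (y ^ (k + 1))⁻¹ = y * (y ^ k * x * (y ^ k)⁻¹) * y⁻¹ := by rw [pow_succ']; group
        _ = y * z ^ k * (x * y⁻¹) := by rw [ih]; group
        _ = z ^ k * (y * x * y⁻¹ * x⁻¹) * x := by rw [h4]; group
        _ = z ^ (k + 1) * x := by rw [← hz, pow_succ]
  have h4 := h3 q
  rw [← hy, pow_orderOf_eq_one, inv_one, mul_one, one_mul, hy] at h4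
  have h5 : z ^ q = 1 := by
    have : z ^ q * x = 1 * x := by rw [← h4, one_mul]
    exact mul_right_cancel this
  have h6 : z = 1 := by
    have h7 : orderOf z ∣ q := orderOf_dvd_of_pow_eq_one h5
    rcases (Nat.dvd_prime hq.out).1 h7 with h8 | h8
    · exact orderOf_eq_one_iff.1 h8
    · exfalso
      apply hOq
      have h9 := Subgroup.orderOf_dvd_natCard _ h2
      rwa [h8] at h9
  rw [hz] at h6
  have h7 : y * x * y⁻¹ = x := mul_inv_eq_one.1 h6
  exact mul_inv_eq_iff_eq_mul.1 h7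

end Cfsg.Agent.H506.SC
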