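import Mathlib
import Cfsg.Agent.H506.SCCoreB

/-!
# Theorem N: `r = 2`, and the induction (helper506)
-/

set_option autoImplicit false
set_option linter.dupNamespace false
set_option linter.unusedSectionVars false
set_option linter.style.haveILetI false

namespace Cfsg.Agent.H506.SC

open Subgroup Cfsg Cfsg.Agent.H506.QMin Cfsg.Agent.H506.NRow Cfsg.Agent.H532.Thr

universe u v

section two

variable {C : Type u} {W : Type v} [Group C] [Finite C] [CommGroup W] [Finite W] [Nontrivial W] {φ : C →* MulAut W}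
  {q : ℕ} [hq : Fact q.Prime]

/-- `r = 2` -/
theorem SC.odd_index (h : SC q φ) (hW : ∀ w : W, w ^ 2 = 1) {y : C} (hy : ∃ k : ℕ, orderOf y = q ^ k) :
    Odd (Subgroup.centralizer ({y} : Set C)).index := by
  haveI : Fact (Nat.Prime 2) := ⟨Nat.prime_two⟩
  obtain ⟨S⟩ : Nonempty (Sylow 2 C) := inferInstance
  obtain ⟨w, hw, hwS⟩ := exists_fixed (φ := φ) hW S.isPGroup'
  obtain ⟨Q, hQ, hQ2⟩ := h w hw
  have hyp : IsPGroup q (zpowers y) := by
    obtain ⟨k, hk⟩ := hy
    rintro ⟨_, j, rfl⟩
    refine ⟨k, Subtype.ext ?_⟩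
    change (y ^ j) ^ q ^ k = 1
    rw [← hk, ← zpow_natCast, ← zpow_mul, mul_comm, zpow_mul, zpow_natCast, pow_orderOf_eq_one, one_zpow]
  obtain ⟨Q', hQ'⟩ := hyp.exists_le_sylow
  obtain ⟨g, rfl⟩ := MulAction.exists_smul_eq C Q Q'
  have h1 := mem_smul_sylow.1 (hQ' (mem_zpowers y))
  have h2 : ((g • S : Sylow 2 C) : Subgroup C) ≤ Subgroup.centralizer ({y} : Set C) := by
    intro s hs
    rw [mem_centralizer_singleton_iff]
    have h3 := mem_smul_sylow.1 hs
    have h4 := hQ2 _ (hwS _ h3) _ h1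
    calc s * y = g * (g⁻¹ * s * g * (g⁻¹ * y * g)) * g⁻¹ := by group
      _ = g * (g⁻¹ * y * g * (g⁻¹ * s * g)) * g⁻¹ := by rw [h4]
      _ = y * s := by group
  rw [← Nat.not_even_iff_odd, even_iff_two_dvd]
  exact fun hd => (g • S : Sylow 2 C).not_dvd_index (hd.trans (index_dvd_of_le h2))

end two

/-- The induction. -/
theorem induct {q r : ℕ} (hq : q.Prime) (hr : r.Prime) (hqr : q ≠ r) (hq2 : q ≠ 2) (hr2 : r ≠ 2)
    (hmin : ∀ (C W : Type) [Group C] [Finite C] [CommGroup W] [Finite W] [Nontrivial W] (φ : C →* MulAut W),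
      Min q r φ → False) :
    ∀ (n : ℕ) (C W : Type) [Group C] [Finite C] [CommGroup W] [Finite W] [Nontrivial W] (φ : C →* MulAut W),
      Nat.card C ≤ n → (∀ w : W, w ^ r = 1) → SC q φ → IsPSolvable q C := by
  haveI : Fact q.Prime := ⟨hq⟩
  haveI : Fact r.Prime := ⟨hr⟩
  intro n
  induction n with
  | zero =>
    intro C W _ _ _ _ _ φ hn
    have := Nat.card_pos (α := C)
    omega
  | succ n ih =>
    intro C W _ _ _ _ _ φ hn hW h
    by_contra hcon
    have hinj : Function.Injective φ := by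
      by_contra hni
      apply hcon
      apply h.of_range
      refine ih φ.range W φ.range.subtype ?_ hW h.range
      have h1 : Nat.card φ.range ∣ Nat.card C := Subgroup.card_range_dvd φ
      have h2 : Nat.card φ.range ≠ Nat.card C := by
        intro h3
        apply hni
        have h4 : Function.Bijective φ.rangeRestrict :=
          (Nat.bijective_iff_surjective_and_card φ.rangeRestrict).2 ⟨φ.rangeRestrict_surjective, h3.symm⟩
        intro a b hab
        exact h4.1 (Subtype.ext hab)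
      have h3 := Nat.le_of_dvd Nat.card_pos h1
      omega
    refine hmin C W φ ⟨h, hinj, hW, hq2, hr2, hqr, hcon, ?_, ?_⟩
    · intro N hN hne
      haveI := hN
      refine ih N W (φ.comp N.subtype) ?_ hW (h.normal N)
      have h1 : Nat.card N ≤ Nat.card C := Nat.card_le_card_of_injective _ N.subtype_injective
      have h2 : Nat.card N ≠ Nat.card C := fun h3 => hne (Subgroup.eq_top_of_card_eq N h3)
      omega
    · intro A hne hfx
      haveI : Nontrivial (fx φ A) := (nontrivial_iff_ne_bot _).2 hfx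
      refine ih (Subgroup.centralizer (A : Set C)) (fx φ A) (cr φ A) ?_ (fun w => Subtype.ext (hW w)) (h.centralizer A)
      have h1 : Nat.card (Subgroup.centralizer (A : Set C)) ≤ Nat.card C :=
        Nat.card_le_card_of_injective _ (Subgroup.subtype_injective _)
      have h2 : Nat.card (Subgroup.centralizer (A : Set C)) ≠ Nat.card C := fun h3 =>
        hne (Subgroup.eq_top_of_card_eq _ h3)
      omega

/-- **Theorem N, assembly.** -/
theorem thmN (h4603 : ∀ (q : ℕ) (_ : q.Prime) (_ : q ≠ 2) (G : Type) [Group G] [Finite G],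
      (∀ y : G, (∃ k : ℕ, orderOf y = q ^ k) → Odd (Subgroup.centralizer ({y} : Set G)).index) → IsPSolvable q G)
    (htwo : ∀ (r : ℕ) (_ : r.Prime) (_ : r ≠ 2) (C W : Type) [Group C] [Finite C] [CommGroup W] [Finite W]
      [Nontrivial W] (φ : C →* MulAut W), SC 2 φ → (∀ w : W, w ^ r = 1) → IsPSolvable 2 C)
    (hmin : ∀ (q r : ℕ) (_ : q.Prime) (_ : r.Prime) (C W : Type) [Group C] [Finite C] [CommGroup W] [Finite W]
      [Nontrivial W] (φ : C →* MulAut W), Min q r φ → False) : ThmN := by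
  intro C W _ _ _ _ q r hq hr hqr hW hne φ h
  obtain ⟨w, hw⟩ := hne
  haveI : Nontrivial W := ⟨⟨w, 1, hw⟩⟩
  haveI : Fact q.Prime := ⟨hq⟩
  by_cases hq2 : q = 2
  · subst hq2
    exact htwo r hr (Ne.symm hqr) C W φ h hW
  by_cases hr2 : r = 2
  · subst hr2
    exact h4603 q hq hq2 C fun y hy => h.odd_index hW hy
  exact induct hq hr hqr hq2 hr2 (fun C W _ _ _ _ _ φ => hmin q r hq hr C W φ) (Nat.card C) C W φ le_rfl hW h

end Cfsg.Agent.H506.SC
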