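import Mathlib
import Cfsg.Agent.H506.SCAsm
import Cfsg.Agent.S0040

/-!
# Theorem N: groups acting without fixed points (helper506)
-/

set_option autoImplicit false
set_option linter.dupNamespace false
set_option linter.unusedSectionVars false

namespace Cfsg.Agent.H506.SC

open Subgroup

theorem fpf {C W : Type} [Group C] [Finite C] [Group W] [Finite W] [Nontrivial W] (φ : C →* MulAut W) : FPF φ := by
  intro f hf M hM hfp
  haveI : Fact f.Prime := ⟨hf⟩
  let ψ : M →* MulAut W := φ.comp M.subtype
  let G := W ⋊[ψ] M
  haveI : Finite G := Finite.of_equiv _ SemidirectProduct.equivProd.symm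
  let K : Subgroup G := (SemidirectProduct.inl : W →* G).range
  let H : Subgroup G := (SemidirectProduct.inr : M →* G).range
  have hKn : K.Normal := by
    have : K = (SemidirectProduct.rightHom : G →* M).ker := SemidirectProduct.range_inl_eq_ker_rightHom
    rw [this]; infer_instance
  have hc : IsComplement' K H := by
    apply isComplement'_of_disjoint_and_mul_eq_univ
    · rw [disjoint_def]
      rintro _ ⟨w, rfl⟩ ⟨m, hm⟩
      have h1 := congrArg SemidirectProduct.right hm
      have h2 : m = 1 := by simpa using h1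
      rw [h2, map_one] at hm
      exact hm.symm
    · rw [Set.eq_univ_iff_forall]
      intro g
      exact ⟨_, ⟨g.left, rfl⟩, _, ⟨g.right, rfl⟩, SemidirectProduct.inl_left_mul_inr_right g⟩
  have hK : K ≠ ⊥ := by
    intro hb
    obtain ⟨w, hw⟩ := exists_ne (1 : W)
    apply hw
    have h1 : (SemidirectProduct.inl w : G) ∈ K := ⟨w, rfl⟩
    rw [hb, mem_bot] at h1
    exact SemidirectProduct.inl_injective (by rw [h1, map_one])
  have hfpf : ∀ h ∈ H, h ≠ 1 → K ⊓ centralizer {h} = ⊥ := by
    rintro _ ⟨m, rfl⟩ hm
    rw [eq_bot_iff]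
    rintro _ ⟨⟨w, rfl⟩, hw⟩
    have h1 := mem_centralizer_singleton_iff.1 hw
    have h2 : φ m w = w := by
      have h3 := SemidirectProduct.inl_aut (φ := ψ) m w
      have h4 : (SemidirectProduct.inr m : G) * SemidirectProduct.inl w * (SemidirectProduct.inr m)⁻¹ =
          SemidirectProduct.inl w := by
        rw [← h1, mul_inv_cancel_right]
      rw [← map_inv, ← h3] at h4
      exact SemidirectProduct.inl_injective h4
    have h3 : w = 1 := hfp m m.2 (fun h => hm (by
      have : m = 1 := Subtype.ext h
      rw [this, map_one])) w h2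
    rw [h3, map_one]
    exact one_mem _
  let e : M ≃* H := MonoidHom.ofInjective (f := (SemidirectProduct.inr : M →* G)) SemidirectProduct.inr_injective
  have hH : IsPGroup f H := hM.of_equiv e
  obtain ⟨P⟩ : Nonempty (Sylow f H) := inferInstance
  have hP : (P : Subgroup H) = ⊤ := by
    have h3 : IsPGroup f (⊤ : Subgroup H) := hH.to_subgroup ⊤
    exact (P.is_maximal' h3 le_top).symm
  have e2 : P ≃* M := ((MulEquiv.subgroupCongr hP).trans topEquiv).trans e.symm
  rcases S0040.result K H hc hK hfpf f P with h1 | ⟨n, ⟨e3⟩⟩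
  · left
    exact isCyclic_of_surjective e2 e2.surjective
  · right
    exact ⟨n, ⟨e2.symm.trans e3⟩⟩

end Cfsg.Agent.H506.SC
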